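import Groth.Agent.H4DR.RHom.TensHom
import Groth.Agent.H25DTen.Exists
import Groth.Agent.H4DR.Hom.HLinear
import Mathlib.LinearAlgebra.Basis.Basic

/-!
# `- ⊗ F` preserves completeness for bounded above complexes of finite free modules
-/

set_option autoImplicit false
set_option linter.style.haveILetI false

universe u

open CategoryTheory CategoryTheory.Limits CochainComplex MonoidalCategory
open Groth.Agent.H4DR.DComplete
open Groth.Agent.H16Derived
open scoped TensorProduct

attribute [local instance] HasDerivedCategory.standard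

namespace Groth.Agent.H4DR.RHom

variable {A : Type u} [CommRing A]

/-- `∏_ℕ C`. -/
noncomputable def piCx (C : DRing.Cx A) : DRing.Cx A where
  X n := ModuleCat.of A (ℕ → C.X n)
  d i j := ModuleCat.ofHom ((C.d i j).hom.compLeft ℕ)
  shape i j h := ModuleCat.hom_ext (LinearMap.ext fun x => funext fun k => by
    show (C.d i j).hom (x k) = 0
    rw [C.shape i j h]
    rfl)
  d_comp_d' i j k _ _ := ModuleCat.hom_ext (LinearMap.ext fun x => funext fun m =>
    congrArg (fun t => t.hom (x m)) (C.d_comp_d i j k))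

/-- The projection. -/
noncomputable def piP (C : DRing.Cx A) (k : ℕ) : piCx C ⟶ C where
  f _ := ModuleCat.ofHom (LinearMap.proj k)
  comm' _ _ _ := rfl

/-- A map into the product. -/
noncomputable def piLift {C D : DRing.Cx A} (φ : ℕ → (D ⟶ C)) : D ⟶ piCx C where
  f n := ModuleCat.ofHom (LinearMap.pi fun k => ((φ k).f n).hom)
  comm' i j _ := ModuleCat.hom_ext (LinearMap.ext fun x => funext fun k =>
    congrArg (fun t => t.hom x) ((φ k).comm i j))

/-- The telescope operator. -/
noncomputable def piT (f : A) (C : DRing.Cx A) : piCx C ⟶ piCx C :=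
  piLift fun k => piP C k - f • piP C (k + 1)

lemma cx_hom_ext_pi {C D : DRing.Cx A} {a b : D ⟶ piCx C} (h : ∀ k, a ≫ piP C k = b ≫ piP C k) : a = b := by
  ext n : 1
  refine ModuleCat.hom_ext (LinearMap.ext fun x => funext fun k => ?_)
  exact congrArg (fun t : D ⟶ C => (t.f n).hom x) (h k)

lemma piT_piP (f : A) (C : DRing.Cx A) (k : ℕ) : piT f C ≫ piP C k = piP C k - f • piP C (k + 1) := rfl

/-- The class of a cycle. -/
noncomputable def cls (Z : DRing.Cx A) (i : ℤ) (z : Z.X i) (hz : (Z.d i (i + 1)).hom z = 0) : Z.homology i :=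
  (Z.homologyπ i).hom ((Z.liftCycles (ModuleCat.ofHom (LinearMap.toSpanSingleton A (Z.X i) z)) (i + 1) (by simp)
    (ModuleCat.hom_ext (LinearMap.ext_ring (by simp [hz])))).hom (1 : A))

lemma iCycles_cls (Z : DRing.Cx A) (i : ℤ) (z : Z.X i) (hz : (Z.d i (i + 1)).hom z = 0) :
    (Z.iCycles i).hom ((Z.liftCycles (ModuleCat.ofHom (LinearMap.toSpanSingleton A (Z.X i) z)) (i + 1) (by simp)
      (ModuleCat.hom_ext (LinearMap.ext_ring (by simp [hz])))).hom (1 : A)) = z := by
  rw [← ConcreteCategory.comp_apply, Z.liftCycles_i]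
  exact LinearMap.toSpanSingleton_apply_one A (Z.X i) z

lemma exists_cls (Z : DRing.Cx A) (i : ℤ) (h : Z.homology i) :
    ∃ (z : Z.X i) (hz : (Z.d i (i + 1)).hom z = 0), cls Z i z hz = h := by
  obtain ⟨c, rfl⟩ := (ModuleCat.epi_iff_surjective (Z.homologyπ i)).1 inferInstance h
  have hd : (Z.d i (i + 1)).hom ((Z.iCycles i).hom c) = 0 := congr($(Z.iCycles_d i (i + 1)).hom c)
  exact ⟨(Z.iCycles i).hom c, hd, congrArg (Z.homologyπ i).hom
    ((ModuleCat.mono_iff_injective (Z.iCycles i)).1 inferInstance (iCycles_cls Z i _ hd))⟩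

lemma cls_eq_zero_iff (Z : DRing.Cx A) (i : ℤ) (z : Z.X i) (hz : (Z.d i (i + 1)).hom z = 0) :
    cls Z i z hz = 0 ↔ ∃ b, (Z.d (i - 1) i).hom b = z := by
  have h : (ShortComplex.mk (Z.toCycles (i - 1) i) (Z.homologyπ i) (Z.toCycles_comp_homologyπ (i - 1) i)).Exact :=
    ShortComplex.exact_of_g_is_cokernel _ (Z.homologyIsCokernel (i - 1) i (by simp))
  refine (((ShortComplex.ShortExact.moduleCat_exact_iff_function_exact _).1 h) _).trans ⟨?_, ?_⟩
  · rintro ⟨b, hb⟩
    refine ⟨b, ?_⟩
    rw [← iCycles_cls Z i z hz, ← hb]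
    exact (congr($(Z.toCycles_i (i - 1) i).hom b)).symm
  · rintro ⟨b, hb⟩
    exact ⟨b, (ModuleCat.mono_iff_injective (Z.iCycles i)).1 inferInstance
      ((congr($(Z.toCycles_i (i - 1) i).hom b)).trans (hb.trans (iCycles_cls Z i z hz).symm))⟩

lemma homologyMap_cls {Z Z' : DRing.Cx A} (φ : Z ⟶ Z') (i : ℤ) (z : Z.X i) (hz : (Z.d i (i + 1)).hom z = 0)
    (hz' : (Z'.d i (i + 1)).hom ((φ.f i).hom z) = 0) :
    (HomologicalComplex.homologyMap φ i).hom (cls Z i z hz) = cls Z' i ((φ.f i).hom z) hz' := by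
  refine (congr($(HomologicalComplex.homologyπ_naturality φ i).hom _)).trans (congrArg (Z'.homologyπ i).hom ?_)
  refine (ModuleCat.mono_iff_injective (Z'.iCycles i)).1 inferInstance ?_
  rw [iCycles_cls Z' i _ hz']
  exact (congr($(HomologicalComplex.cyclesMap_i φ i).hom _)).trans (congrArg (φ.f i).hom (iCycles_cls Z i z hz))

/-- `H(∏ C) = ∏ H(C)`. -/
noncomputable def piH (C : DRing.Cx A) (i : ℤ) : (piCx C).homology i →ₗ[A] (ℕ → C.homology i) :=
  LinearMap.pi fun k => (HomologicalComplex.homologyMap (piP C k) i).hom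

lemma bijective_piH (C : DRing.Cx A) (i : ℤ) : Function.Bijective (piH C i) := by
  refine ⟨(injective_iff_map_eq_zero _).2 fun x hx => ?_, fun y => ?_⟩
  · obtain ⟨z, hz, rfl⟩ := exists_cls (piCx C) i x
    have hb : ∀ k, ∃ b, (C.d (i - 1) i).hom b = z k := fun k =>
      (cls_eq_zero_iff C i _ (congrFun hz k)).1 ((homologyMap_cls (piP C k) i z hz (congrFun hz k)).symm.trans (congrFun hx k))
    choose b hb using hb
    exact (cls_eq_zero_iff _ i z hz).2 ⟨b, funext hb⟩
  · choose z hz hzy using fun k => exists_cls C i (y k)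
    exact ⟨cls (piCx C) i z (funext hz), funext fun k =>
      (homologyMap_cls (piP C k) i z (funext hz) (hz k)).trans (hzy k)⟩

lemma piH_piT (f : A) (C : DRing.Cx A) (i : ℤ) (x : (piCx C).homology i) :
    piH C i ((HomologicalComplex.homologyMap (piT f C) i).hom x) = T f (C.homology i) (piH C i x) := by
  funext k
  show (HomologicalComplex.homologyMap (piT f C) i ≫ HomologicalComplex.homologyMap (piP C k) i).hom x = _
  rw [← HomologicalComplex.homologyMap_comp, piT_piP, HomologicalComplex.homologyMap_sub,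
    Hom.homologyMap_smul]
  rfl

/-- Completeness is a quasi-isomorphism condition. -/
theorem quasiIso_piT_iff (f : A) (C : DRing.Cx A) :
    QuasiIso (piT f C) ↔ ∀ i, Bij f (C.homology i) := by
  rw [quasiIso_iff]
  refine forall_congr' fun i => ?_
  rw [quasiIsoAt_iff_isIso_homologyMap, ConcreteCategory.isIso_iff_bijective]
  show _ ↔ Function.Bijective (T f (C.homology i))
  refine Iff.trans ?_ (Function.Bijective.of_comp_iff _ (bijective_piH C i))
  rw [show (⇑(T f (C.homology i)) ∘ ⇑(piH C i)) = ⇑(piH C i) ∘ (HomologicalComplex.homologyMap (piT f C) i).hom from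
    funext fun x => (piH_piT f C i x).symm]
  exact (Function.Bijective.of_comp_iff' (bijective_piH C i) _).symm

variable (F : DRing.Cx A)

/-- The comparison `(∏ P) ⊗ F ⟶ ∏ (P ⊗ F)`. -/
noncomputable def piTens (P : DRing.Cx A) : piCx P ⊗ F ⟶ piCx (P ⊗ F) :=
  piLift fun k => piP P k ▷ F

/-- A coordinate on `P ⊗ F`. -/
noncomputable def coord (P : DRing.Cx A) (p q n : ℤ) (φ : F.X q →ₗ[A] A) : (P ⊗ F).X n ⟶ P.X p :=
  HomologicalComplex.mapBifunctorDesc (fun p' q' (_ : p' + q' = n) =>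
    if h : p' = p ∧ q' = q then
      ModuleCat.ofHom (((TensorProduct.rid A (P.X p')).toLinearMap ∘ₗ
        LinearMap.lTensor (P.X p') (φ ∘ₗ (F.XIsoOfEq h.2).hom.hom))) ≫ (P.XIsoOfEq h.1).hom
    else 0)

lemma coord_tinc (P : DRing.Cx A) (p q n : ℤ) (φ : F.X q →ₗ[A] A) (h : p + q = n) (x : P.X p) (y : F.X q) :
    (coord F P p q n φ).hom (tinc P F p q n h (x ⊗ₜ y)) = φ y • x := by
  refine (congrArg (fun t : _ ⟶ P.X p => t.hom (x ⊗ₜ y))
    (HomologicalComplex.ι_mapBifunctorDesc (K₁ := P) (K₂ := F) (F := curriedTensor (ModuleCat.{u} A))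
      (c := ComplexShape.up ℤ) (j := n) _ p q h)).trans ?_
  rw [dif_pos ⟨rfl, rfl⟩]
  rfl

lemma coord_tinc_ne (P : DRing.Cx A) (p q n : ℤ) (φ : F.X q →ₗ[A] A) (p' q' : ℤ) (h : p' + q' = n)
    (hne : ¬(p' = p ∧ q' = q)) (x : P.X p') (y : F.X q') :
    (coord F P p q n φ).hom (tinc P F p' q' n h (x ⊗ₜ y)) = 0 := by
  refine (congrArg (fun t : _ ⟶ P.X p => t.hom (x ⊗ₜ y))
    (HomologicalComplex.ι_mapBifunctorDesc (K₁ := P) (K₂ := F) (F := curriedTensor (ModuleCat.{u} A))
      (c := ComplexShape.up ℤ) (j := n) _ p' q' h)).trans ?_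
  rw [dif_neg hne]
  rfl

lemma coord_naturality {P P' : DRing.Cx A} (g : P ⟶ P') (p q n : ℤ) (φ : F.X q →ₗ[A] A) :
    (g ▷ F).f n ≫ coord F P' p q n φ = coord F P p q n φ ≫ g.f p := by
  refine HomologicalComplex.mapBifunctor.hom_ext fun p' q' h => ModuleCat.hom_ext (TensorProduct.ext' fun x y => ?_)
  show (coord F P' p q n φ).hom (((g ▷ F).f n).hom (tinc P F p' q' n h (x ⊗ₜ y))) =
    (g.f p).hom ((coord F P p q n φ).hom (tinc P F p' q' n h (x ⊗ₜ y)))
  rw [tinc_whiskerRight]
  by_cases hh : p' = p ∧ q' = q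
  · obtain ⟨rfl, rfl⟩ := hh
    rw [coord_tinc, coord_tinc, map_smul]
  · rw [coord_tinc_ne F P' p q n φ p' q' h hh, coord_tinc_ne F P p q n φ p' q' h hh, map_zero]

variable {F} {c : ℤ}

/-- Elements of `P ⊗ F` from coordinates. -/
theorem eq_sum_coord (hFc : DRing.VanishesAbove F c) {ι : ℤ → Type u} [∀ q, Fintype (ι q)]
    (bs : ∀ q, Module.Basis (ι q) A (F.X q)) {b : ℤ} {P : DRing.Cx A} (hP : DRing.VanishesAbove P b) (n : ℤ)
    (z : (P ⊗ F).X n) :
    z = ∑ p ∈ Finset.Icc (n - c) b, ∑ i : ι (n - p),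
      tinc P F p (n - p) n (add_sub_cancel p n) ((coord F P p (n - p) n ((bs (n - p)).coord i)).hom z ⊗ₜ bs (n - p) i) := by
  let R : (P ⊗ F).X n →ₗ[A] (P ⊗ F).X n := ∑ p ∈ Finset.Icc (n - c) b, ∑ i : ι (n - p),
    (tinc P F p (n - p) n (add_sub_cancel p n)) ∘ₗ ((TensorProduct.mk A (P.X p) (F.X (n - p))).flip (bs (n - p) i)) ∘ₗ
      (coord F P p (n - p) n ((bs (n - p)).coord i)).hom
  have hR : ModuleCat.ofHom R = 𝟙 ((P ⊗ F).X n) := by
    refine HomologicalComplex.mapBifunctor.hom_ext fun p' q' h => ModuleCat.hom_ext (TensorProduct.ext' fun x y => ?_)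
    show R (tinc P F p' q' n h (x ⊗ₜ y)) = tinc P F p' q' n h (x ⊗ₜ y)
    obtain rfl : q' = n - p' := by
      change p' + q' = n at h
      omega
    simp only [R, LinearMap.sum_apply, LinearMap.comp_apply]
    by_cases hp : p' ∈ Finset.Icc (n - c) b
    · rw [Finset.sum_eq_single p']
      · simp only [coord_tinc, LinearMap.flip_apply, TensorProduct.mk_apply, TensorProduct.smul_tmul]
        rw [← map_sum, ← TensorProduct.tmul_sum]
        congr 2
        exact (bs (n - p')).sum_repr y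
      · intro p _ hne
        refine Finset.sum_eq_zero fun i _ => ?_
        rw [coord_tinc_ne F P p (n - p) n _ p' (n - p') h (fun hh => hne hh.1.symm), map_zero, map_zero]
      · exact fun h' => absurd hp h'
    · have hz : x ⊗ₜ[A] y = 0 := by
        rw [Finset.mem_Icc, not_and_or, not_le, not_le] at hp
        rcases hp with hp | hp
        · haveI := ModuleCat.subsingleton_of_isZero (hFc (n - p') (by omega))
          rw [Subsingleton.elim y 0, TensorProduct.tmul_zero]
        · haveI := ModuleCat.subsingleton_of_isZero (hP p' hp)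
          rw [Subsingleton.elim x 0, TensorProduct.zero_tmul]
      rw [hz, map_zero]
      exact Finset.sum_eq_zero fun p _ => Finset.sum_eq_zero fun i _ => by rw [map_zero, map_zero, map_zero]
  conv_lhs => rw [show z = (ModuleCat.ofHom R).hom z by rw [hR]; rfl]
  simp only [R, ModuleCat.hom_ofHom, LinearMap.sum_apply, LinearMap.comp_apply, LinearMap.flip_apply,
    TensorProduct.mk_apply]

/-- `(∏ P) ⊗ F = ∏ (P ⊗ F)`. -/
theorem isIso_piTens (hFc : DRing.VanishesAbove F c) (hFf : DRing.TermwiseFiniteFree F) {b : ℤ} {P : DRing.Cx A}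
    (hP : DRing.VanishesAbove P b) : IsIso (piTens F P) := by
  haveI : ∀ q, Module.Finite A (F.X q) := fun q => (hFf q).1
  haveI : ∀ q, Module.Free A (F.X q) := fun q => (hFf q).2
  haveI : ∀ q, Fintype (Module.Free.ChooseBasisIndex A (F.X q)) := fun q => inferInstance
  let bs := fun q => Module.Free.chooseBasis A (F.X q)
  have hPi : DRing.VanishesAbove (piCx P) b := fun i hi => by
    haveI := ModuleCat.subsingleton_of_isZero (hP i hi)
    exact @ModuleCat.isZero_of_subsingleton A _ ((piCx P).X i) (inferInstanceAs (Subsingleton (ℕ → P.X i)))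
  haveI : ∀ n, IsIso ((piTens F P).f n) := fun n => by
    rw [ConcreteCategory.isIso_iff_bijective]
    refine ⟨(injective_iff_map_eq_zero _).2 fun z hz => ?_, fun y => ?_⟩
    · rw [eq_sum_coord hFc bs hPi n z]
      refine Finset.sum_eq_zero fun p _ => Finset.sum_eq_zero fun i _ => ?_
      have h0 : (coord F (piCx P) p (n - p) n ((bs (n - p)).coord i)).hom z = 0 := funext fun k => by
        have h1 := congrArg (fun t => t.hom z) (coord_naturality F (piP P k) p (n - p) n ((bs (n - p)).coord i))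
        refine h1.symm.trans ?_
        show (coord F P p (n - p) n ((bs (n - p)).coord i)).hom (((piP P k ▷ F).f n).hom z) = 0
        rw [show ((piP P k ▷ F).f n).hom z = 0 from congrFun hz k, map_zero]
      rw [h0, TensorProduct.zero_tmul, map_zero]
    · refine ⟨∑ p ∈ Finset.Icc (n - c) b, ∑ i,
        tinc (piCx P) F p (n - p) n (add_sub_cancel p n)
          ((fun k => (coord F P p (n - p) n ((bs (n - p)).coord i)).hom (y k) : ℕ → P.X p) ⊗ₜ bs (n - p) i), ?_⟩
      funext k
      show ((piP P k ▷ F).f n).hom _ = y k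
      simp only [map_sum]
      refine Eq.trans ?_ (eq_sum_coord hFc bs hP n (y k)).symm
      exact Finset.sum_congr rfl fun p _ => Finset.sum_congr rfl fun i _ => tinc_whiskerRight _ _ _ _ _ _ _ _
  exact HomologicalComplex.Hom.isIso_of_components _

lemma piT_piTens (f : A) (P : DRing.Cx A) : (piT f P ▷ F) ≫ piTens F P = piTens F P ≫ piT f (P ⊗ F) := by
  refine cx_hom_ext_pi fun k => ?_
  ext n : 1
  refine HomologicalComplex.mapBifunctor.hom_ext fun p q h => ModuleCat.hom_ext (TensorProduct.ext' fun x y => ?_)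
  show ((piP P k ▷ F).f n).hom (((piT f P ▷ F).f n).hom (tinc (piCx P) F p q n h (x ⊗ₜ y))) =
    ((piP P k ▷ F).f n).hom (tinc (piCx P) F p q n h (x ⊗ₜ y)) -
      f • ((piP P (k + 1) ▷ F).f n).hom (tinc (piCx P) F p q n h (x ⊗ₜ y))
  simp only [tinc_whiskerRight]
  show tinc P F p q n h (((x : ℕ → P.X p) k - f • (x : ℕ → P.X p) (k + 1)) ⊗ₜ y) = _
  rw [TensorProduct.sub_tmul, map_sub, ← TensorProduct.smul_tmul', map_smul]
  rfl

/-- Bounded above finite free complexes preserve completeness. -/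
theorem isDerivedComplete_tensor {I : Ideal A} (hFc : DRing.VanishesAbove F c) (hFf : DRing.TermwiseFiniteFree F)
    {b : ℤ} {P : DRing.Cx A} (hP : DRing.VanishesAbove P b) (h : DRing.IsDerivedComplete I (DRing.toD P)) :
    DRing.IsDerivedComplete I (DRing.toD (P ⊗ F)) := by
  rw [DComplete.isDerivedComplete_iff] at h ⊢
  intro f hf n
  let e : ∀ (Z : DRing.Cx A) (i : ℤ), Dual.HD A (DRing.toD Z) i ≃ₗ[A] Z.homology i := fun Z i =>
    ((DerivedCategory.homologyFunctorFactors (ModuleCat.{u} A) i).app Z).toLinearEquiv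
  have hPq : QuasiIso (piT f P) := (quasiIso_piT_iff f P).2 fun i => (h f hf i).of_equiv (e P i)
  have hflat : DRing.TermwiseFlat F := fun i => haveI := (hFf i).2; inferInstance
  haveI : QuasiIso (piT f P ▷ F) :=
    H25DTen.quasiIso_whiskerRight (piT f P) (TorAmp.isKFlat_of_flat hFc hflat)
  haveI := isIso_piTens hFc hFf hP
  haveI : QuasiIso (piTens F P ≫ piT f (P ⊗ F)) := by
    rw [← piT_piTens]
    infer_instance
  haveI := quasiIso_of_comp_left (piTens F P) (piT f (P ⊗ F))
  exact ((quasiIso_piT_iff f (P ⊗ F)).1 ‹_› n).of_equiv (e _ n).symm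

end Groth.Agent.H4DR.RHom
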