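import Groth.Prelude.Def_DRing4

/-!
# `Hom•(K, Hom•(L, M)) ≅ Hom•(K ⊗ L, M)`
-/

set_option autoImplicit false
set_option linter.style.haveILetI false

universe u

open CategoryTheory CategoryTheory.Limits CochainComplex CochainComplex.HomComplex MonoidalCategory
open scoped TensorProduct

namespace Groth.Agent.H4DR.RHom

variable {A : Type u} [CommRing A]

/-- The inclusion of a summand as a linear map. -/
noncomputable def tinc (K L : DRing.Cx A) (p q n : ℤ) (h : p + q = n) :
    (K.X p ⊗[A] L.X q) →ₗ[A] (K ⊗ L).X n :=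
  (HomologicalComplex.ιTensorObj K L p q n h).hom

lemma tinc_d (K L : DRing.Cx A) (p q n n' : ℤ) (h : p + q = n) (hn : n + 1 = n') (x : K.X p) (y : L.X q) :
    ((K ⊗ L).d n n').hom (tinc K L p q n h (x ⊗ₜ y)) =
      tinc K L (p + 1) q n' (by omega) ((K.d p (p + 1)).hom x ⊗ₜ y) +
        p.negOnePow • tinc K L p (q + 1) n' (by omega) (x ⊗ₜ (L.d q (q + 1)).hom y) := by
  have e : HomologicalComplex.ιTensorObj K L p q n h ≫ (K ⊗ L).d n n' =
      (K.d p (p + 1) ▷ L.X q) ≫ HomologicalComplex.ιTensorObj K L (p + 1) q n' (by omega) +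
      p.negOnePow • ((K.X p ◁ L.d q (q + 1)) ≫ HomologicalComplex.ιTensorObj K L p (q + 1) n' (by omega)) := by
    refine Eq.trans (congrArg (_ ≫ ·) (HomologicalComplex.mapBifunctor.d_eq K L (curriedTensor (ModuleCat.{u} A))
      (ComplexShape.up ℤ) n n')) ?_
    refine (Preadditive.comp_add _ _ _ _ _ _).trans ?_
    erw [HomologicalComplex.mapBifunctor.ι_D₁, HomologicalComplex.mapBifunctor.ι_D₂]
    rw [HomologicalComplex.mapBifunctor.d₁_eq K L (curriedTensor (ModuleCat.{u} A)) (ComplexShape.up ℤ)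
      (show (ComplexShape.up ℤ).Rel p (p + 1) from rfl) q n' (show p + 1 + q = n' by omega),
      HomologicalComplex.mapBifunctor.d₂_eq K L (curriedTensor (ModuleCat.{u} A)) (ComplexShape.up ℤ) p
      (show (ComplexShape.up ℤ).Rel q (q + 1) from rfl) n' (show p + (q + 1) = n' by omega)]
    exact congrArg₂ (· + ·) (one_smul _ _) rfl
  exact congrArg (fun t => t.hom (x ⊗ₜ y)) e

/-- Two cochains out of a tensor product agree when they agree on pure tensors. -/
lemma cochain_tensor_ext {K L M : DRing.Cx A} {n : ℤ} {z z' : Cochain (K ⊗ L) M n}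
    (h : ∀ (p q m m' : ℤ) (hpq : p + q = m) (hm : m + n = m') (x : K.X p) (y : L.X q),
      (z.v m m' hm).hom (tinc K L p q m hpq (x ⊗ₜ y)) = (z'.v m m' hm).hom (tinc K L p q m hpq (x ⊗ₜ y))) :
    z = z' := by
  refine Cochain.ext _ _ fun m m' hm => HomologicalComplex.mapBifunctor.hom_ext fun p q hpq => ?_
  exact ModuleCat.hom_ext (TensorProduct.ext' fun x y => h p q m m' hpq hm x y)

/-- Evaluation of a cochain. -/
noncomputable def cev (L M : DRing.Cx A) (k q r : ℤ) (h : q + k = r) :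
    Cochain L M k →ₗ[A] (L.X q →ₗ[A] M.X r) where
  toFun z := (z.v q r h).hom
  map_add' _ _ := rfl
  map_smul' _ _ := rfl

/-- Currying in degree `n`. -/
noncomputable def curryLin (K L M : DRing.Cx A) (n : ℤ) :
    Cochain (K ⊗ L) M n →ₗ[A] Cochain K (DRing.homCx L M) n where
  toFun z := Cochain.mk fun p p' _ => ModuleCat.ofHom (X := K.X p) (Y := Cochain L M p')
    { toFun := fun x => Cochain.mk fun q r _ => ModuleCat.ofHom
        ((z.v (p + q) r (by omega)).hom ∘ₗ tinc K L p q (p + q) rfl ∘ₗ TensorProduct.mk A (K.X p) (L.X q) x)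
      map_add' := fun x x' => Cochain.ext _ _ fun q r hqr => ModuleCat.hom_ext (LinearMap.ext fun y => by
        show (z.v (p + q) r (by omega)).hom (tinc K L p q (p + q) rfl ((x + x') ⊗ₜ y)) =
          (z.v (p + q) r (by omega)).hom (tinc K L p q (p + q) rfl (x ⊗ₜ y)) +
            (z.v (p + q) r (by omega)).hom (tinc K L p q (p + q) rfl (x' ⊗ₜ y))
        rw [TensorProduct.add_tmul, map_add, map_add])
      map_smul' := fun a x => Cochain.ext _ _ fun q r hqr => ModuleCat.hom_ext (LinearMap.ext fun y => by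
        show (z.v (p + q) r (by omega)).hom (tinc K L p q (p + q) rfl ((a • x) ⊗ₜ y)) =
          a • (z.v (p + q) r (by omega)).hom (tinc K L p q (p + q) rfl (x ⊗ₜ y))
        rw [← TensorProduct.smul_tmul', map_smul, map_smul]) }
  map_add' _ _ := rfl
  map_smul' _ _ := rfl

/-- Uncurrying in degree `n`. -/
noncomputable def uncurry (K L M : DRing.Cx A) (n : ℤ) (u : Cochain K (DRing.homCx L M) n) :
    Cochain (K ⊗ L) M n :=
  Cochain.mk fun m m' hm => HomologicalComplex.mapBifunctorDesc (fun p q (hpq : p + q = m) =>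
    ModuleCat.ofHom (TensorProduct.lift ((cev L M (p + n) q m' (by omega)) ∘ₗ (u.v p (p + n) rfl).hom)))

lemma uncurry_apply (K L M : DRing.Cx A) (n : ℤ) (u : Cochain K (DRing.homCx L M) n) (p q m m' : ℤ)
    (hpq : p + q = m) (hm : m + n = m') (x : K.X p) (y : L.X q) :
    ((uncurry K L M n u).v m m' hm).hom (tinc K L p q m hpq (x ⊗ₜ y)) =
      (cev L M (p + n) q m' (by omega)) ((u.v p (p + n) rfl).hom x) y :=
  (congrArg (fun t : _ ⟶ M.X m' => t.hom (x ⊗ₜ y))
    (HomologicalComplex.ι_mapBifunctorDesc (K₁ := K) (K₂ := L) (F := curriedTensor (ModuleCat.{u} A))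
      (c := ComplexShape.up ℤ) (j := m) _ p q hpq))

lemma bijective_curryLin (K L M : DRing.Cx A) (n : ℤ) : Function.Bijective (curryLin K L M n) := by
  refine ⟨fun z z' h => cochain_tensor_ext fun p q m m' hpq hm x y => ?_, fun u => ⟨uncurry K L M n u, ?_⟩⟩
  · subst hpq
    exact congrArg (fun t : Cochain K (DRing.homCx L M) n =>
      cev L M (p + n) q m' (by omega) ((t.v p (p + n) rfl).hom x) y) h
  · refine Cochain.ext _ _ fun p p' hp => ModuleCat.hom_ext (LinearMap.ext fun x => ?_)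
    refine Cochain.ext _ _ fun q r hqr => ModuleCat.hom_ext (LinearMap.ext fun y => ?_)
    subst hp
    exact uncurry_apply K L M n u p q (p + q) r rfl (by omega) x y

lemma vt (K L M : DRing.Cx A) (n : ℤ) (z : Cochain (K ⊗ L) M n) (p q r m₁ m₂ : ℤ) (h₁ : p + q = m₁)
    (h₂ : p + q = m₂) (hr₁ : m₁ + n = r) (hr₂ : m₂ + n = r) (t : K.X p ⊗[A] L.X q) :
    (z.v m₁ r hr₁).hom (tinc K L p q m₁ h₁ t) = (z.v m₂ r hr₂).hom (tinc K L p q m₂ h₂ t) := by
  subst h₁ h₂
  rfl

/-- `Hom•(K ⊗ L, M) ≅ Hom•(K, Hom•(L, M))`. -/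
noncomputable def curryCxIso (K L M : DRing.Cx A) :
    DRing.homCx (K ⊗ L) M ≅ DRing.homCx K (DRing.homCx L M) :=
  HomologicalComplex.Hom.isoOfComponents
    (fun n => (LinearEquiv.ofBijective (curryLin K L M n) (bijective_curryLin K L M n)).toModuleIso)
    (fun n n' hn => ModuleCat.hom_ext (LinearMap.ext fun (z : Cochain (K ⊗ L) M n) => by
      obtain rfl : n + 1 = n' := hn
      refine Cochain.ext _ _ fun p p' hp => ModuleCat.hom_ext (LinearMap.ext fun x => ?_)
      refine Cochain.ext _ _ fun q r hqr => ModuleCat.hom_ext (LinearMap.ext fun y => ?_)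
      show (cev L M p' q r hqr) (((δ n (n + 1) (curryLin K L M n z)).v p p' hp).hom x) y =
        ((δ n (n + 1) z).v (p + q) r (by omega)).hom (tinc K L p q (p + q) rfl (x ⊗ₜ y))
      rw [δ_v n (n + 1) rfl _ p p' hp (p' - 1) (p + 1) rfl rfl,
        δ_v n (n + 1) rfl z (p + q) r (by omega) (r - 1) (p + q + 1) rfl rfl]
      simp only [ModuleCat.hom_add, LinearMap.add_apply, Units.smul_def, ModuleCat.hom_zsmul,
        LinearMap.smul_apply, ModuleCat.hom_comp, LinearMap.comp_apply]
      erw [tinc_d K L p q (p + q) (p + q + 1) rfl rfl x y]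
      show ((δ (p' - 1) p' (Cochain.mk fun q' r' _ => ModuleCat.ofHom
            ((z.v (p + q') r' (by omega)).hom ∘ₗ tinc K L p q' (p + q') rfl ∘ₗ
              TensorProduct.mk A (K.X p) (L.X q') x))).v q r hqr).hom y + _ = _
      rw [δ_v (p' - 1) p' (by omega) _ q r hqr (r - 1) (q + 1) rfl rfl]
      simp only [Cochain.mk_v, ModuleCat.hom_add, LinearMap.add_apply, Units.smul_def, ModuleCat.hom_zsmul,
        LinearMap.smul_apply, map_add, map_zsmul, ModuleCat.hom_comp, LinearMap.comp_apply,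
        ModuleCat.hom_ofHom, TensorProduct.mk_apply]
      show _ + _ + ((n + 1).negOnePow : ℤ) • ((z.v (p + 1 + q) r (by omega)).hom
        (tinc K L (p + 1) q (p + 1 + q) rfl ((K.d p (p + 1)).hom x ⊗ₜ y))) = _
      rw [vt K L M n z (p + 1) q r (p + 1 + q) (p + q + 1) rfl (by omega) (by omega) (by omega),
        vt K L M n z p (q + 1) r (p + (q + 1)) (p + q + 1) rfl (by omega) (by omega) (by omega),
        smul_add, smul_smul]
      have hs : ((n + 1).negOnePow : ℤ) * (p.negOnePow : ℤ) = (p'.negOnePow : ℤ) := by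
        rw [← hp, ← Units.val_mul, ← Int.negOnePow_add, add_comm p]
      rw [hs]
      abel))

end Groth.Agent.H4DR.RHom
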