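import Groth.Agent.H4DR.RHom.Classes
import Mathlib.Algebra.Homology.HomotopyCategory.HomComplexSingle

/-!
# Hom complexes in the first variable
-/

set_option autoImplicit false
set_option linter.style.haveILetI false

universe u

open CategoryTheory CategoryTheory.Limits CochainComplex CochainComplex.HomComplex
open Groth.Agent.H16Derived

attribute [local instance] HasDerivedCategory.standard

namespace Groth.Agent.H4DR.RHom

variable {A : Type u} [CommRing A]

/-- A criterion for quasi-isomorphisms on elements. -/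
theorem quasiIsoAt_of_elements {X Y : DRing.Cx A} (φ : X ⟶ Y) (i : ℤ)
    (hs : ∀ y : Y.X i, (Y.d i (i + 1)).hom y = 0 →
      ∃ (x : X.X i) (b : Y.X (i - 1)), (X.d i (i + 1)).hom x = 0 ∧ (φ.f i).hom x = y + (Y.d (i - 1) i).hom b)
    (hi : ∀ (x : X.X i) (b : Y.X (i - 1)), (X.d i (i + 1)).hom x = 0 → (φ.f i).hom x = (Y.d (i - 1) i).hom b →
      ∃ a : X.X (i - 1), (X.d (i - 1) i).hom a = x) :
    QuasiIsoAt φ i := by
  rw [quasiIsoAt_iff_isIso_homologyMap, ConcreteCategory.isIso_iff_bijective]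
  have hex : ∀ (Z : DRing.Cx A) (c : Z.cycles i), (Z.homologyπ i).hom c = 0 ↔
      ∃ b : Z.X (i - 1), (Z.toCycles (i - 1) i).hom b = c := fun Z c => by
    have h : (ShortComplex.mk (Z.toCycles (i - 1) i) (Z.homologyπ i) (Z.toCycles_comp_homologyπ (i - 1) i)).Exact :=
      ShortComplex.exact_of_g_is_cokernel _ (Z.homologyIsCokernel (i - 1) i (by simp))
    exact ((ShortComplex.ShortExact.moduleCat_exact_iff_function_exact _).1 h) c
  have hπ : ∀ (Z : DRing.Cx A), Function.Surjective (Z.homologyπ i).hom := fun Z =>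
    (ModuleCat.epi_iff_surjective _).1 inferInstance
  have hι : ∀ (Z : DRing.Cx A), Function.Injective (Z.iCycles i).hom := fun Z =>
    (ModuleCat.mono_iff_injective _).1 inferInstance
  have hmk : ∀ (Z : DRing.Cx A) (z : Z.X i), (Z.d i (i + 1)).hom z = 0 →
      ∃ c : Z.cycles i, (Z.iCycles i).hom c = z := fun Z z hz => by
    let t : ModuleCat.of A A ⟶ Z.X i := ModuleCat.ofHom (LinearMap.toSpanSingleton A (Z.X i) z)
    have ht : t ≫ Z.d i (i + 1) = 0 := ModuleCat.hom_ext (LinearMap.ext_ring (by simp [t, hz]))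
    refine ⟨(Z.liftCycles t (i + 1) (by simp) ht).hom (1 : A), ?_⟩
    rw [← ConcreteCategory.comp_apply, Z.liftCycles_i]
    exact LinearMap.toSpanSingleton_apply_one A (Z.X i) z
  have hd : ∀ (Z : DRing.Cx A) (c : Z.cycles i), (Z.d i (i + 1)).hom ((Z.iCycles i).hom c) = 0 := fun Z c =>
    congr($(Z.iCycles_d i (i + 1)).hom c)
  have hnat : ∀ c : X.cycles i, (HomologicalComplex.homologyMap φ i).hom ((X.homologyπ i).hom c) =
      (Y.homologyπ i).hom ((HomologicalComplex.cyclesMap φ i).hom c) := fun c =>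
    congr($(HomologicalComplex.homologyπ_naturality φ i).hom c)
  have hc : ∀ c : X.cycles i, (Y.iCycles i).hom ((HomologicalComplex.cyclesMap φ i).hom c) =
      (φ.f i).hom ((X.iCycles i).hom c) := fun c =>
    congr($(HomologicalComplex.cyclesMap_i φ i).hom c)
  have htc : ∀ (Z : DRing.Cx A) (b : Z.X (i - 1)),
      (Z.iCycles i).hom ((Z.toCycles (i - 1) i).hom b) = (Z.d (i - 1) i).hom b := fun Z b =>
    congr($(Z.toCycles_i (i - 1) i).hom b)
  refine ⟨(injective_iff_map_eq_zero _).2 fun x hx => ?_, fun y => ?_⟩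
  · obtain ⟨c, rfl⟩ := hπ X x
    obtain ⟨b, hb⟩ := (hex Y _).1 ((hnat c).symm.trans hx)
    obtain ⟨a, ha⟩ := hi _ b (hd X c) (by rw [← hc, ← hb, htc])
    exact (hex X c).2 ⟨a, hι X (by rw [htc, ha])⟩
  · obtain ⟨d, rfl⟩ := hπ Y y
    obtain ⟨x, b, hx, hxb⟩ := hs _ (hd Y d)
    obtain ⟨c, rfl⟩ := hmk X x hx
    refine ⟨(X.homologyπ i).hom c, (hnat c).trans (sub_eq_zero.1 ((map_sub _ _ _).symm.trans ((hex Y _).2 ⟨b, hι Y ?_⟩)))⟩
    rw [htc, map_sub, hc, hxb, add_sub_cancel_left]

/-- Precomposition on Hom complexes. -/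
noncomputable def homCxPre {K K' : DRing.Cx A} (g : K ⟶ K') (L : DRing.Cx A) :
    DRing.homCx K' L ⟶ DRing.homCx K L where
  f i := ModuleCat.ofHom (X := Cochain K' L i) (Y := Cochain K L i)
    { toFun := fun z => (Cochain.ofHom g).comp z (zero_add i)
      map_add' := fun z z' => Cochain.comp_add _ z z' _
      map_smul' := fun a z => Cochain.comp_smul _ a z _ }
  comm' i j _ := ModuleCat.hom_ext (LinearMap.ext fun (z : Cochain K' L i) => δ_ofHom_comp g z j)

/-- `Hom•(-, J)` turns a map inducing bijections on `Hom_D(-, J[n])` into a quasi-isomorphism. -/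
theorem quasiIso_homCxPre {K K' : DRing.Cx A} (g : K ⟶ K') (J : DRing.Cx A) [CochainComplex.IsKInjective J]
    (h : ∀ n : ℤ, Function.Bijective (fun x : DRing.toD K' ⟶ DerivedCategory.Q.obj (J⟦n⟧) =>
      DerivedCategory.Q.map g ≫ x)) : QuasiIso (homCxPre g J) := by
  have hpre : ∀ (n : ℤ) (z : Cocycle K' J n),
      DerivedCategory.Q.map (Cocycle.equivHomShift.symm (z.precomp g)) =
        DerivedCategory.Q.map g ≫ DerivedCategory.Q.map (Cocycle.equivHomShift.symm z) := fun n z => by
    rw [Cocycle.equivHomShift_symm_precomp, Functor.map_comp]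
  have hzero : ∀ {P : DRing.Cx A} (n : ℤ) (z : Cocycle P J n),
      DerivedCategory.Q.map (Cocycle.equivHomShift.symm z) = 0 ↔ z ∈ coboundaries P J n := fun {P} n z => by
    rw [← CohomologyClass.toHom_mk_eq_zero_iff, CohomologyClass.toHom_mk]
    refine ⟨fun h0 => ?_, fun h0 => ?_⟩
    · rw [HomotopyCategory.eq_of_homotopy _ _ (nonempty_homotopy_of_Q_map _ h0).some, Functor.map_zero]
    · rw [DerivedCategory.Q_map_eq_of_homotopy (h := HomotopyCategory.homotopyOfEq _ _
        (h0.trans (Functor.map_zero _ _ _).symm)), Functor.map_zero]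
  refine ⟨fun n => quasiIsoAt_of_elements _ n (fun (y : Cochain K J n) hy => ?_)
    fun (x : Cochain K' J n) b hx hxb => ?_⟩
  · let z : Cocycle K J n := Cocycle.mk y (n + 1) rfl hy
    obtain ⟨w, hw⟩ := (h n).2 (DerivedCategory.Q.map (Cocycle.equivHomShift.symm z))
    obtain ⟨f', hf'⟩ : ∃ f' : K' ⟶ J⟦n⟧, DerivedCategory.Q.map f' = w := by
      obtain ⟨u, hu⟩ := (CochainComplex.IsKInjective.Qh_map_bijective ((HomotopyCategory.quotient _ _).obj K') (J⟦n⟧)).2
        ((DerivedCategory.quotientCompQhIso _).hom.app K' ≫ w ≫ (DerivedCategory.quotientCompQhIso _).inv.app (J⟦n⟧))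
      obtain ⟨f', rfl⟩ := (HomotopyCategory.quotient _ _).map_surjective u
      refine ⟨f', (cancel_epi ((DerivedCategory.quotientCompQhIso _).hom.app K')).1 ?_⟩
      have hn := (DerivedCategory.quotientCompQhIso (ModuleCat.{u} A)).hom.naturality f'
      rw [Functor.comp_map, hu, Category.assoc, Category.assoc, Iso.inv_hom_id_app, Category.comp_id] at hn
      exact hn.symm
    let z' : Cocycle K' J n := Cocycle.equivHomShift f'
    have hd : z'.precomp g - z ∈ coboundaries K J n := (hzero n _).1 (by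
      rw [map_sub, Functor.map_sub, hpre, sub_eq_zero]
      show DerivedCategory.Q.map g ≫ DerivedCategory.Q.map (Cocycle.equivHomShift.symm (Cocycle.equivHomShift f')) = _
      rw [AddEquiv.symm_apply_apply, hf']
      exact hw)
    obtain ⟨b, hb⟩ := (mem_coboundaries_iff _ (n - 1) (by omega)).1 hd
    refine ⟨z'.1, b, Cocycle.δ_eq_zero z' (n + 1), ?_⟩
    show (Cochain.ofHom g).comp z'.1 (zero_add n) = y + δ (n - 1) n b
    rw [hb]
    exact (add_sub_cancel _ _).symm
  · let z' : Cocycle K' J n := Cocycle.mk x (n + 1) rfl hx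
    have hd : z'.precomp g ∈ coboundaries K J n := (mem_coboundaries_iff _ (n - 1) (by omega)).2 ⟨b, hxb.symm⟩
    have hq := (hzero n _).2 hd
    rw [hpre] at hq
    have h0 : DerivedCategory.Q.map (Cocycle.equivHomShift.symm z') = 0 :=
      (h n).1 (hq.trans comp_zero.symm)
    exact (mem_coboundaries_iff _ (n - 1) (by omega)).1 ((hzero n _).1 h0)

/-- The unit module in degree `0`. -/
noncomputable abbrev unitCx (A : Type u) [CommRing A] : DRing.Cx A :=
  (CochainComplex.singleFunctor (ModuleCat.{u} A) 0).obj (ModuleCat.of A A)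

/-- A map out of `A` at `1`. -/
def atOne (M : ModuleCat.{u} A) : (ModuleCat.of A A ⟶ M) →ₗ[A] M where
  toFun φ := φ.hom (1 : A)
  map_add' _ _ := rfl
  map_smul' _ _ := rfl

/-- `Hom•(A, L) ⟶ L`. -/
noncomputable def evalOne (L : DRing.Cx A) : DRing.homCx (unitCx A) L ⟶ L where
  f i := ModuleCat.ofHom (X := Cochain (unitCx A) L i) (Y := L.X i)
    { toFun := fun z => atOne (L.X i) ((HomologicalComplex.singleObjXSelf (ComplexShape.up ℤ) 0 (ModuleCat.of A A)).inv ≫
        z.v 0 i (zero_add i))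
      map_add' := fun z z' => (congrArg (atOne (L.X i)) (Preadditive.comp_add _ _ _ _
        (z.v 0 i (zero_add i)) (z'.v 0 i (zero_add i)))).trans (map_add _ _ _)
      map_smul' := fun a z => (congrArg (atOne (L.X i)) (Linear.comp_smul _ _ _ _ a
        (z.v 0 i (zero_add i)))).trans (map_smul _ _ _) }
  comm' i j hij := ModuleCat.hom_ext (LinearMap.ext fun (z : Cochain (unitCx A) L i) => by
    obtain ⟨φ, hφ⟩ := Cochain.fromSingleMk_surjective (X := ModuleCat.of A A) (p := 0) z i (zero_add i)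
    obtain rfl : i + 1 = j := hij
    show (L.d i (i + 1)).hom (((HomologicalComplex.singleObjXSelf (ComplexShape.up ℤ) 0 (ModuleCat.of A A)).inv ≫
        z.v 0 i (zero_add i)).hom (1 : A)) =
      ((HomologicalComplex.singleObjXSelf (ComplexShape.up ℤ) 0 (ModuleCat.of A A)).inv ≫
        (δ i (i + 1) z).v 0 (i + 1) (zero_add _)).hom (1 : A)
    rw [← hφ, Cochain.δ_fromSingleMk φ (zero_add i) (i + 1) (i + 1) (zero_add _), Cochain.fromSingleMk_v,
      Cochain.fromSingleMk_v, Iso.inv_hom_id_assoc, Iso.inv_hom_id_assoc]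
    rfl)

instance isIso_evalOne (L : DRing.Cx A) : IsIso (evalOne L) := by
  haveI : ∀ i, IsIso ((evalOne L).f i) := fun i => by
    rw [ConcreteCategory.isIso_iff_bijective]
    let e := Cochain.fromSingleEquiv (C := ModuleCat.{u} A) (X := ModuleCat.of A A) (K := L) (zero_add i)
    have h1 : Function.Bijective (fun φ : ModuleCat.of A A ⟶ L.X i => φ.hom (1 : A)) := by
      refine ⟨fun φ φ' h => ModuleCat.hom_ext (LinearMap.ext_ring h), fun x => ?_⟩
      exact ⟨ModuleCat.ofHom (LinearMap.toSpanSingleton A (L.X i) x), LinearMap.toSpanSingleton_apply_one A (L.X i) x⟩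
    show Function.Bijective ((fun φ : ModuleCat.of A A ⟶ L.X i => φ.hom (1 : A)) ∘ e)
    exact h1.comp e.bijective
  exact HomologicalComplex.Hom.isIso_of_components _

end Groth.Agent.H4DR.RHom
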