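import Groth.Agent.H4DR.RHom.Complete
import Groth.Agent.H4DR.RHom.Curry
import Groth.Agent.H4DR.RHom.Precomp
import Groth.Agent.H4DR.TorAmp.Basic

/-!
# Maps out of `C ⊗ F` into derived complete objects
-/

set_option autoImplicit false
set_option linter.style.haveILetI false

universe u

open CategoryTheory CategoryTheory.Limits CochainComplex CochainComplex.HomComplex MonoidalCategory
open Groth.Agent.H4DR.DComplete
open Groth.Agent.H16Derived
open scoped TensorProduct

attribute [local instance] HasDerivedCategory.standard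

namespace Groth.Agent.H4DR.RHom

variable {A : Type u} [CommRing A]

lemma tinc_whiskerRight {C C' : DRing.Cx A} (g : C ⟶ C') (F : DRing.Cx A) (p q n : ℤ) (h : p + q = n)
    (x : C.X p) (y : F.X q) :
    ((g ▷ F).f n).hom (tinc C F p q n h (x ⊗ₜ y)) = tinc C' F p q n h ((g.f p).hom x ⊗ₜ y) := by
  have e : HomologicalComplex.ιTensorObj C F p q n h ≫ (g ▷ F).f n =
      (g.f p ▷ F.X q) ≫ HomologicalComplex.ιTensorObj C' F p q n h := by
    show _ ≫ (HomologicalComplex.mapBifunctorMap g (𝟙 F) (curriedTensor (ModuleCat.{u} A)) (ComplexShape.up ℤ)).f n = _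
    erw [HomologicalComplex.ι_mapBifunctorMap]
    simp
  exact congrArg (fun t => t.hom (x ⊗ₜ y)) e

/-- Currying is natural. -/
lemma curryLin_precomp {C C' : DRing.Cx A} (g : C ⟶ C') (F J : DRing.Cx A) (n : ℤ)
    (z : Cochain (C' ⊗ F) J n) :
    curryLin C F J n ((Cochain.ofHom (g ▷ F)).comp z (zero_add n)) =
      (Cochain.ofHom g).comp (curryLin C' F J n z) (zero_add n) := by
  refine Cochain.ext _ _ fun p p' hp => ModuleCat.hom_ext (LinearMap.ext fun x => ?_)
  refine Cochain.ext _ _ fun q r hqr => ModuleCat.hom_ext (LinearMap.ext fun y => ?_)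
  rw [Cochain.zero_cochain_comp_v]
  show (((Cochain.ofHom (g ▷ F)).comp z (zero_add n)).v (p + q) r (by omega)).hom (tinc C F p q (p + q) rfl (x ⊗ₜ y)) =
    (z.v (p + q) r (by omega)).hom (tinc C' F p q (p + q) rfl ((g.f p).hom x ⊗ₜ y))
  rw [Cochain.zero_cochain_comp_v, Cochain.ofHom_v]
  exact congrArg (z.v (p + q) r (by omega)).hom (tinc_whiskerRight g F p q (p + q) rfl x y)

lemma curryLin_δ (C F J : DRing.Cx A) (n n' : ℤ) (z : Cochain (C ⊗ F) J n) :
    curryLin C F J n' (δ n n' z) = δ n n' (curryLin C F J n z) :=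
  congrArg (fun t => t.hom z) ((curryCxIso C F J).hom.comm n n').symm

/-- `Q f = 0` into a K-injective target, in terms of cochains. -/
lemma Q_map_eq_zero_iff {P J : DRing.Cx A} [CochainComplex.IsKInjective J] (f : P ⟶ J) :
    DerivedCategory.Q.map f = 0 ↔ ∃ w : Cochain P J (-1), δ (-1) 0 w = Cochain.ofHom f := by
  refine ⟨fun h => ?_, fun ⟨w, hw⟩ => ?_⟩
  · obtain ⟨w, hw⟩ := Cochain.equivHomotopy f 0 (nonempty_homotopy_of_Q_map f h).some
    exact ⟨w, by rw [hw, Cochain.ofHom_zero, add_zero]⟩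
  · rw [DerivedCategory.Q_map_eq_of_homotopy (h := (Cochain.equivHomotopy f 0).symm ⟨w, by rw [hw, Cochain.ofHom_zero, add_zero]⟩),
      Functor.map_zero]

/-- The curried map. -/
noncomputable def curryHom {C F J : DRing.Cx A} (f : C ⊗ F ⟶ J) : C ⟶ DRing.homCx F J :=
  Cocycle.homOf (Cocycle.mk (curryLin C F J 0 (Cochain.ofHom f)) 1 (zero_add 1)
    (by rw [← curryLin_δ, δ_ofHom, map_zero]))

lemma ofHom_curryHom {C F J : DRing.Cx A} (f : C ⊗ F ⟶ J) :
    Cochain.ofHom (curryHom f) = curryLin C F J 0 (Cochain.ofHom f) := by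
  simp [curryHom]

lemma exists_uncurry {C F J : DRing.Cx A} (a : C ⟶ DRing.homCx F J) :
    ∃ f : C ⊗ F ⟶ J, curryHom f = a := by
  obtain ⟨z, hz⟩ := (bijective_curryLin C F J 0).2 (Cochain.ofHom a)
  have hδ : δ 0 1 z = 0 := (bijective_curryLin C F J 1).1 (by rw [curryLin_δ, hz, δ_ofHom, map_zero])
  refine ⟨Cocycle.homOf (Cocycle.mk z 1 (zero_add 1) hδ), Cochain.ofHom_injective ?_⟩
  rw [ofHom_curryHom, Cocycle.cochain_ofHom_homOf_eq_coe, Cocycle.mk_coe, hz]

lemma Q_curryHom_eq_zero {C F J : DRing.Cx A} [CochainComplex.IsKInjective J]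
    [CochainComplex.IsKInjective (DRing.homCx F J)] (f : C ⊗ F ⟶ J) :
    DerivedCategory.Q.map (curryHom f) = 0 ↔ DerivedCategory.Q.map f = 0 := by
  rw [Q_map_eq_zero_iff, Q_map_eq_zero_iff, ofHom_curryHom]
  refine ⟨fun ⟨w, hw⟩ => ?_, fun ⟨w, hw⟩ => ⟨curryLin C F J (-1) w, by rw [← curryLin_δ, hw]⟩⟩
  obtain ⟨v, rfl⟩ := (bijective_curryLin C F J (-1)).2 w
  exact ⟨v, (bijective_curryLin C F J 0).1 (by rw [curryLin_δ, hw])⟩

lemma curryHom_precomp {C C' F J : DRing.Cx A} (g : C ⟶ C') (f : C' ⊗ F ⟶ J) :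
    curryHom ((g ▷ F) ≫ f) = g ≫ curryHom f := by
  refine Cochain.ofHom_injective ?_
  rw [Cochain.ofHom_comp, ofHom_curryHom, ofHom_curryHom, Cochain.ofHom_comp, curryLin_precomp]

lemma curryHom_sub {C F J : DRing.Cx A} (f f' : C ⊗ F ⟶ J) :
    curryHom (f - f') = curryHom f - curryHom f' := by
  refine Cochain.ofHom_injective ?_
  rw [Cochain.ofHom_sub, ofHom_curryHom, ofHom_curryHom, ofHom_curryHom, Cochain.ofHom_sub, map_sub]

/-- `Hom•(F, J)` is K-injective for K-flat `F` and K-injective `J`. -/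
theorem isKInjective_homCx (F J : DRing.Cx A) (hF : KFlat.IsKFlat (KFlatMod.bi (R := A)) F)
    [CochainComplex.IsKInjective J] : CochainComplex.IsKInjective (DRing.homCx F J) where
  nonempty_homotopy_zero {C} a hC := by
    obtain ⟨f, rfl⟩ := exists_uncurry a
    obtain ⟨w, hw⟩ := Cochain.equivHomotopy f 0 (CochainComplex.IsKInjective.homotopyZero f (hF C hC))
    refine ⟨(Cochain.equivHomotopy _ 0).symm ⟨curryLin C F J (-1) w, ?_⟩⟩
    rw [← curryLin_δ, ofHom_curryHom, Cochain.ofHom_zero, add_zero, hw, Cochain.ofHom_zero, add_zero]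

/-- Tensoring preserves maps that complete objects do not distinguish. -/
theorem bijective_precomp_whiskerRight (s : Finset A) {C C' : DRing.Cx A} (g : C ⟶ C') (F : DRing.Cx A)
    (hF : KFlat.IsKFlat (KFlatMod.bi (R := A)) F)
    (hg : ∀ E : Dual.D A, DRing.IsDerivedComplete (Ideal.span (s : Set A)) E →
      Function.Bijective (fun x : DRing.toD C' ⟶ E => DerivedCategory.Q.map g ≫ x))
    (E : Dual.D A) (hE : DRing.IsDerivedComplete (Ideal.span (s : Set A)) E) :
    Function.Bijective (fun x : DRing.toD (C' ⊗ F) ⟶ E => DerivedCategory.Q.map (g ▷ F) ≫ x) := by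
  obtain ⟨N, j, hN⟩ := KInjRes.exists_resolution_functor (A := ModuleCat.{u} A)
  let X := DerivedCategory.Q.objPreimage E
  haveI := (hN X).2.1
  let J := N.obj X
  haveI : CochainComplex.IsKInjective J := (hN X).2.2.1
  haveI : ∀ i, Injective (J.X i) := (hN X).2.2.2
  let e : DRing.toD J ≅ E :=
    (asIso (DerivedCategory.Q.map (j.app X))).symm ≪≫ DerivedCategory.Q.objObjPreimageIso E
  haveI := isKInjective_homCx F J hF
  have hJ := isDerivedComplete_of_iso e.symm hE
  have hL : DRing.IsDerivedComplete (Ideal.span (s : Set A)) (DRing.toD (DRing.homCx F J)) :=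
    (isDerivedComplete_span_iff _ _).2 fun f hf n =>
      bij_homCx f F J ((acyclic_coind_iff f J).2 (hJ f (Ideal.subset_span hf))) n
  have key : Function.Bijective (fun x : DRing.toD (C' ⊗ F) ⟶ DRing.toD J => DerivedCategory.Q.map (g ▷ F) ≫ x) := by
    refine ⟨fun a b hab => ?_, fun y => ?_⟩
    · obtain ⟨a', rfl⟩ := exists_Q_map_eq a
      obtain ⟨b', rfl⟩ := exists_Q_map_eq b
      rw [← sub_eq_zero, ← Functor.map_sub, ← Q_curryHom_eq_zero]
      refine (hg _ hL).1 ?_
      show DerivedCategory.Q.map g ≫ _ = DerivedCategory.Q.map g ≫ _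
      rw [comp_zero, ← Functor.map_comp, ← curryHom_precomp, Q_curryHom_eq_zero, Preadditive.comp_sub, Functor.map_sub,
        Functor.map_comp, Functor.map_comp, sub_eq_zero]
      exact hab
    · obtain ⟨y', rfl⟩ := exists_Q_map_eq y
      obtain ⟨x, hx⟩ := (hg _ hL).2 (DerivedCategory.Q.map (curryHom y'))
      obtain ⟨x', rfl⟩ := exists_Q_map_eq x
      obtain ⟨f, rfl⟩ := exists_uncurry x'
      refine ⟨DerivedCategory.Q.map f, ?_⟩
      show DerivedCategory.Q.map (g ▷ F) ≫ DerivedCategory.Q.map f = _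
      rw [← sub_eq_zero, ← Functor.map_comp, ← Functor.map_sub, ← Q_curryHom_eq_zero, curryHom_sub, curryHom_precomp,
        Functor.map_sub, Functor.map_comp, sub_eq_zero]
      exact hx
  refine ⟨fun a b hab => (cancel_mono e.inv).1 (key.1 ?_), fun y => ?_⟩
  · show _ ≫ a ≫ e.inv = _ ≫ b ≫ e.inv
    rw [← Category.assoc, ← Category.assoc]
    exact congrArg (· ≫ e.inv) hab
  · obtain ⟨x, hx⟩ := key.2 (y ≫ e.inv)
    refine ⟨x ≫ e.hom, ?_⟩
    show _ ≫ x ≫ e.hom = y
    rw [← Category.assoc]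
    exact (congrArg (· ≫ e.hom) hx).trans ((Category.assoc _ _ _).trans (by rw [Iso.inv_hom_id, Category.comp_id]))

end Groth.Agent.H4DR.RHom
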