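import Mathlib.CategoryTheory.Functor.Derived.RightDerived
import Mathlib.CategoryTheory.Localization.Predicate

/-!
# Right derived functors from functorial resolutions
-/

set_option autoImplicit false
set_option linter.style.haveILetI false

open CategoryTheory

namespace Groth.Agent.H4DR.RHom

universe v v' v'' u u' u''

variable {C : Type u} [Category.{v} C] {D : Type u'} [Category.{v'} D] {H : Type u''} [Category.{v''} H]
  (L : C ⥤ D) (W : MorphismProperty C) [L.IsLocalization W] {F : C ⥤ H} {R : C ⥤ C} (j : 𝟭 C ⟶ R)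
  (hinv : W.IsInvertedBy (R ⋙ F))

/-- The candidate unit. -/
noncomputable def unit₀ : F ⟶ L ⋙ Localization.lift (R ⋙ F) hinv L :=
  F.leftUnitor.inv ≫ Functor.whiskerRight j F ≫ (Localization.fac (R ⋙ F) hinv L).inv

lemma unit₀_app (X : C) :
    (unit₀ L W j hinv).app X = F.map (j.app X) ≫ (Localization.fac (R ⋙ F) hinv L).inv.app X := by
  simp [unit₀]

/-- The comparison `R ⋙ F ⟶ L ⋙ G`. -/
noncomputable def comparison (hj : ∀ X, W (j.app X)) {G : D ⥤ H} (β : F ⟶ L ⋙ G) : R ⋙ F ⟶ L ⋙ G :=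
  haveI : ∀ X, IsIso (L.map (j.app X)) := fun X => Localization.inverts L W _ (hj X)
  { app := fun X => β.app (R.obj X) ≫ G.map (inv (L.map (j.app X)))
    naturality := fun X Y φ => by
      have h1 : L.map φ ≫ L.map (j.app Y) = L.map (j.app X) ≫ L.map (R.map φ) := by
        rw [← L.map_comp, ← L.map_comp]
        exact congrArg L.map (j.naturality φ)
      have h2 : inv (L.map (j.app X)) ≫ L.map φ = L.map (R.map φ) ≫ inv (L.map (j.app Y)) := by
        rw [IsIso.inv_comp_eq, ← Category.assoc, IsIso.eq_comp_inv, h1]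
      show F.map (R.map φ) ≫ β.app (R.obj Y) ≫ _ = (β.app (R.obj X) ≫ _) ≫ G.map (L.map φ)
      rw [← Category.assoc, β.naturality, Category.assoc, Category.assoc]
      show β.app (R.obj X) ≫ G.map (L.map (R.map φ)) ≫ _ = _
      rw [← Functor.map_comp, ← Functor.map_comp, h2] }

/-- The factorization through the candidate. -/
noncomputable def desc₀ (hj : ∀ X, W (j.app X)) {G : D ⥤ H} (β : F ⟶ L ⋙ G) :
    Localization.lift (R ⋙ F) hinv L ⟶ G :=
  letI : Localization.Lifting L W (R ⋙ F) (Localization.lift (R ⋙ F) hinv L) :=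
    ⟨Localization.fac (R ⋙ F) hinv L⟩
  letI : Localization.Lifting L W (L ⋙ G) G := ⟨Iso.refl _⟩
  Localization.liftNatTrans L W (R ⋙ F) (L ⋙ G) _ G (comparison L W j hj β)

lemma desc₀_fac (hj : ∀ X, W (j.app X)) {G : D ⥤ H} (β : F ⟶ L ⋙ G) (X : C) :
    (unit₀ L W j hinv).app X ≫ (desc₀ L W j hinv hj β).app (L.obj X) = β.app X := by
  haveI : IsIso (L.map (j.app X)) := Localization.inverts L W _ (hj X)
  rw [unit₀_app]
  simp [desc₀, comparison]

lemma hom_ext₀ (hj : ∀ X, W (j.app X)) (hloc : ∀ X, IsIso (F.map (j.app (R.obj X)))) {G : D ⥤ H}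
    {γ γ' : Localization.lift (R ⋙ F) hinv L ⟶ G}
    (h : ∀ X, (unit₀ L W j hinv).app X ≫ γ.app (L.obj X) = (unit₀ L W j hinv).app X ≫ γ'.app (L.obj X)) :
    γ = γ' := by
  refine Localization.natTrans_ext L W fun X => ?_
  haveI : IsIso (L.map (j.app X)) := Localization.inverts L W _ (hj X)
  have := hloc X
  have h' := h (R.obj X)
  rw [unit₀_app, Category.assoc, Category.assoc, cancel_epi, cancel_epi] at h'
  rw [← cancel_mono (G.map (L.map (j.app X))), ← NatTrans.naturality, ← NatTrans.naturality, h']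

theorem isRightDerived_unit₀ (hj : ∀ X, W (j.app X)) (hloc : ∀ X, IsIso (F.map (j.app (R.obj X)))) :
    (Localization.lift (R ⋙ F) hinv L).IsRightDerivedFunctor (unit₀ L W j hinv) W :=
  ⟨⟨⟨Limits.IsInitial.ofUniqueHom
    (fun E => StructuredArrow.homMk (desc₀ L W j hinv hj E.hom)
      (NatTrans.ext (funext fun X => desc₀_fac L W j hinv hj E.hom X)))
    fun E m => StructuredArrow.hom_ext _ _ (hom_ext₀ L W j hinv hj hloc fun X => by
      exact (congr_app (StructuredArrow.w m) X).trans (desc₀_fac L W j hinv hj E.hom X).symm)⟩⟩⟩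

include L hinv in
theorem hasRightDerived (hj : ∀ X, W (j.app X)) (hloc : ∀ X, IsIso (F.map (j.app (R.obj X)))) :
    F.HasRightDerivedFunctor W :=
  haveI := isRightDerived_unit₀ L W j hinv hj hloc
  Functor.HasRightDerivedFunctor.mk' (Localization.lift (R ⋙ F) hinv L) (unit₀ L W j hinv)

theorem isIso_unit_app (hj : ∀ X, W (j.app X)) (hloc : ∀ X, IsIso (F.map (j.app (R.obj X))))
    (RF : D ⥤ H) (α : F ⟶ L ⋙ RF) [RF.IsRightDerivedFunctor α W] (hinv : W.IsInvertedBy (R ⋙ F))
    (X : C) [IsIso (F.map (j.app X))] : IsIso (α.app X) := by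
  haveI := isRightDerived_unit₀ L W j hinv hj hloc
  let e := Functor.rightDerivedUnique (Localization.lift (R ⋙ F) hinv L) RF (unit₀ L W j hinv) α W
  have h : (unit₀ L W j hinv).app X ≫ e.hom.app (L.obj X) = α.app X := by
    simp [e, Functor.rightDerivedUnique]
  haveI : IsIso ((unit₀ L W j hinv).app X) := by rw [unit₀_app]; infer_instance
  rw [← h]
  infer_instance

end Groth.Agent.H4DR.RHom
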