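import Groth.Agent.H4DR.RHom.HomCx
import Groth.Agent.H16Derived.KFlat.Cone
import Mathlib.Algebra.Homology.HomotopyCategory.KProjective
import Mathlib.Algebra.Homology.ShortComplex.ModuleCat

/-!
# Cohomology of Hom complexes; cones
-/

set_option autoImplicit false
set_option linter.style.haveILetI false

universe u

open CategoryTheory CategoryTheory.Limits CochainComplex CochainComplex.HomComplex Pretriangulated
open scoped ZeroObject

attribute [local instance] HasDerivedCategory.standard

namespace Groth.Agent.H4DR.RHom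

variable {A : Type u} [CommRing A]

lemma exactAt_homCx_iff (K L : DRing.Cx A) (n : ℤ) :
    (DRing.homCx K L).ExactAt n ↔
      ∀ z : Cochain K L n, δ n (n + 1) z = 0 → ∃ w : Cochain K L (n - 1), δ (n - 1) n w = z := by
  rw [HomologicalComplex.exactAt_iff' _ (n - 1) n (n + 1) (by simp) (by simp), ShortComplex.moduleCat_exact_iff]
  rfl

lemma exactAt_homCx_iff_classes (K L : DRing.Cx A) (n : ℤ) :
    (DRing.homCx K L).ExactAt n ↔ ∀ z : Cocycle K L n, z ∈ coboundaries K L n := by
  rw [exactAt_homCx_iff]
  refine ⟨fun h z => ?_, fun h z hz => ?_⟩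
  · obtain ⟨w, hw⟩ := h z.1 (Cocycle.δ_eq_zero z (n + 1))
    exact (mem_coboundaries_iff z (n - 1) (by omega)).2 ⟨w, hw⟩
  · exact (mem_coboundaries_iff _ (n - 1) (by omega)).1 (h (Cocycle.mk z (n + 1) rfl hz))

/-- A class vanishes when the morphism in the homotopy category does. -/
lemma exactAt_homCx_of_homotopy (K L : DRing.Cx A) (n : ℤ)
    (h : ∀ f : K ⟶ L⟦n⟧, Nonempty (Homotopy f 0)) : (DRing.homCx K L).ExactAt n :=
  (exactAt_homCx_iff_classes K L n).2 fun z => (CohomologyClass.toHom_mk_eq_zero_iff z).1 (by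
    rw [CohomologyClass.toHom_mk, HomotopyCategory.eq_of_homotopy _ _ (h _).some, Functor.map_zero])

/-- Maps into a K-injective complex that vanish in `D(A)` vanish up to homotopy. -/
lemma nonempty_homotopy_of_Q_map {P J : DRing.Cx A} [CochainComplex.IsKInjective J] (f : P ⟶ J)
    (h : DerivedCategory.Q.map f = 0) : Nonempty (Homotopy f 0) := by
  refine ⟨HomotopyCategory.homotopyOfEq _ _ ((CochainComplex.IsKInjective.Qh_map_bijective _ J).1 ?_)⟩
  rw [← cancel_mono ((DerivedCategory.quotientCompQhIso (ModuleCat.{u} A)).hom.app J)]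
  refine ((DerivedCategory.quotientCompQhIso (ModuleCat.{u} A)).hom.naturality _).trans ?_
  rw [h, ← Functor.map_zero DerivedCategory.Q P J]
  exact ((DerivedCategory.quotientCompQhIso (ModuleCat.{u} A)).hom.naturality _).symm

/-- `H^n(Hom•(K, J)) = 0` when `Hom_D(K, J[n]) = 0`. -/
theorem exactAt_homCx_of_subsingleton (K J : DRing.Cx A) [CochainComplex.IsKInjective J] (n : ℤ)
    (h : Subsingleton (DRing.toD K ⟶ (DRing.toD J)⟦n⟧)) : (DRing.homCx K J).ExactAt n :=
  exactAt_homCx_of_homotopy K J n fun f => nonempty_homotopy_of_Q_map f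
    ((cancel_mono ((DerivedCategory.Q.commShiftIso n).hom.app J)).1
      ((Subsingleton.elim (α := DRing.toD K ⟶ (DRing.toD J)⟦n⟧) _ _).trans zero_comp.symm))

lemma acyclic_homCx_of_kinj (K J : DRing.Cx A) [CochainComplex.IsKInjective J] (hJ : J.Acyclic) :
    (DRing.homCx K J).Acyclic := fun n => exactAt_homCx_of_homotopy K J n fun f =>
  let h0 := CochainComplex.IsKInjective.homotopyZero (𝟙 (J⟦n⟧)) (Groth.Agent.H16Derived.KFlat.acyclic_shift hJ n)
  ⟨(Homotopy.ofEq (Category.comp_id f).symm).trans ((h0.compLeft f).trans (Homotopy.ofEq comp_zero))⟩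

lemma acyclic_homCx_of_kproj (P C : DRing.Cx A) [CochainComplex.IsKProjective P] (hC : C.Acyclic) :
    (DRing.homCx P C).Acyclic := fun n => exactAt_homCx_of_homotopy P C n fun f =>
  CochainComplex.IsKProjective.nonempty_homotopy_zero f
    (Groth.Agent.H16Derived.KFlat.acyclic_shift hC n)

/-- Elements of the cone, decomposed. -/
lemma decomp_cochain (K : DRing.Cx A) {W V : DRing.Cx A} (φ : W ⟶ V) {i : ℤ}
    (z : Cochain K (mappingCone φ) i) :
    z = (z.comp (mappingCone.fst φ).1 rfl).comp (mappingCone.inl φ) (by omega) +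
      (z.comp (mappingCone.snd φ) (add_zero i)).comp (Cochain.ofHom (mappingCone.inr φ)) (add_zero i) := by
  conv_lhs => rw [← Cochain.comp_id z, ← mappingCone.id φ, Cochain.comp_add]
  rw [Cochain.comp_assoc z _ _ rfl (add_neg_cancel 1) (by omega),
    Cochain.comp_assoc_of_third_is_zero_cochain z _ _ (add_zero i)]

/-- `w ↦ inl ∘ w`. -/
noncomputable def inlCochain (K : DRing.Cx A) {W V : DRing.Cx A} (φ : W ⟶ V) :
    Cochain ((DRing.homCxFunctor K).obj W) ((DRing.homCxFunctor K).obj (mappingCone φ)) (-1) :=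
  Cochain.mk fun p q _ => compHom K (mappingCone.inl φ) p q

lemma δ_inlCochain (K : DRing.Cx A) {W V : DRing.Cx A} (φ : W ⟶ V) :
    δ (-1) 0 (inlCochain K φ) =
      Cochain.ofHom ((DRing.homCxFunctor K).map φ ≫ (DRing.homCxFunctor K).map (mappingCone.inr φ)) := by
  refine Cochain.ext₀ _ _ fun p => ?_
  rw [δ_v (-1) 0 (by omega) _ p p (add_zero p) (p - 1) (p + 1) rfl rfl]
  refine ModuleCat.hom_ext (LinearMap.ext fun (z : Cochain K W p) => ?_)
  simp only [Int.negOnePow_zero, one_smul, Cochain.ofHom_v]
  show δ (p - 1) p ((compHom K (mappingCone.inl φ) p (p - 1)).hom z : Cochain K (mappingCone φ) (p - 1)) +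
      (show Cochain K (mappingCone φ) p from (compHom K (mappingCone.inl φ) (p + 1) p).hom (δ p (p + 1) z)) =
    (z.comp (Cochain.ofHom φ) (add_zero p)).comp (Cochain.ofHom (mappingCone.inr φ)) (add_zero p)
  rw [compHom_apply _ _ p (p - 1) (by omega), compHom_apply _ _ (p + 1) p rfl,
    δ_comp z (mappingCone.inl φ) (show p + (-1) = p - 1 by omega) (p + 1) 0 p (by omega) rfl (by omega),
    mappingCone.δ_inl, Cochain.ofHom_comp, Cochain.comp_assoc_of_third_is_zero_cochain]
  simp only [Int.reduceNeg, Int.negOnePow_neg, Int.negOnePow_one, Units.neg_smul, one_smul]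
  abel

/-- `cone(Hom•(K, φ)) ⟶ Hom•(K, cone φ)`. -/
noncomputable def coneMap (K : DRing.Cx A) {W V : DRing.Cx A} (φ : W ⟶ V) :
    mappingCone ((DRing.homCxFunctor K).map φ) ⟶ (DRing.homCxFunctor K).obj (mappingCone φ) :=
  mappingCone.desc _ (inlCochain K φ) ((DRing.homCxFunctor K).map (mappingCone.inr φ)) (δ_inlCochain K φ)

lemma inr_coneMap (K : DRing.Cx A) {W V : DRing.Cx A} (φ : W ⟶ V) :
    mappingCone.inr ((DRing.homCxFunctor K).map φ) ≫ coneMap K φ =
      (DRing.homCxFunctor K).map (mappingCone.inr φ) :=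
  mappingCone.inr_desc _ _ _ _

instance isIso_coneMap (K : DRing.Cx A) {W V : DRing.Cx A} (φ : W ⟶ V) : IsIso (coneMap K φ) := by
  haveI : ∀ n, IsIso ((coneMap K φ).f n) := fun n => by
    let ψ := (DRing.homCxFunctor K).map φ
    let back₁ : ((DRing.homCxFunctor K).obj (mappingCone φ)).X n ⟶ ((DRing.homCxFunctor K).obj W).X (n + 1) :=
      ModuleCat.ofHom (X := Cochain K (mappingCone φ) n) (Y := Cochain K W (n + 1))
        { toFun := fun z => z.comp (mappingCone.fst φ).1 rfl
          map_add' := fun z z' => Cochain.add_comp z z' _ _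
          map_smul' := fun a z => Cochain.smul_comp a z _ _ }
    let back₂ : ((DRing.homCxFunctor K).obj (mappingCone φ)).X n ⟶ ((DRing.homCxFunctor K).obj V).X n :=
      ModuleCat.ofHom (X := Cochain K (mappingCone φ) n) (Y := Cochain K V n)
        { toFun := fun z => z.comp (mappingCone.snd φ) (add_zero n)
          map_add' := fun z z' => Cochain.add_comp z z' _ _
          map_smul' := fun a z => Cochain.smul_comp a z _ _ }
    refine ⟨back₁ ≫ (mappingCone.inl ψ).v (n + 1) n (by omega) + back₂ ≫ (mappingCone.inr ψ).f n, ?_, ?_⟩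
    · apply mappingCone.ext_from ψ (n + 1) n rfl
      · simp only [Preadditive.comp_add, coneMap]
        erw [mappingCone.inl_v_desc_f_assoc, mappingCone.inl_v_desc_f_assoc]
        have e₁ : (inlCochain K φ).v (n + 1) n (by omega) ≫ back₁ = 𝟙 _ := ModuleCat.hom_ext (LinearMap.ext
          fun (z : Cochain K W (n + 1)) => by
            show (show Cochain K (mappingCone φ) n from (compHom K (mappingCone.inl φ) (n + 1) n).hom z).comp
              (mappingCone.fst φ).1 rfl = z
            rw [compHom_apply _ _ (n + 1) n rfl, Cochain.comp_assoc z _ _ (by omega) (neg_add_cancel 1) (by omega),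
              mappingCone.inl_fst, Cochain.comp_id])
        have e₂ : (inlCochain K φ).v (n + 1) n (by omega) ≫ back₂ = 0 := ModuleCat.hom_ext (LinearMap.ext
          fun (z : Cochain K W (n + 1)) => by
            show (show Cochain K (mappingCone φ) n from (compHom K (mappingCone.inl φ) (n + 1) n).hom z).comp
              (mappingCone.snd φ) (add_zero n) = 0
            rw [compHom_apply _ _ (n + 1) n rfl, Cochain.comp_assoc_of_third_is_zero_cochain,
              mappingCone.inl_snd, Cochain.comp_zero])
        rw [reassoc_of% e₁, reassoc_of% e₂, zero_comp, add_zero, Category.comp_id]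
      · simp only [Preadditive.comp_add, coneMap]
        erw [mappingCone.inr_f_desc_f_assoc, mappingCone.inr_f_desc_f_assoc]
        have e₁ : ((DRing.homCxFunctor K).map (mappingCone.inr φ)).f n ≫ back₁ = 0 := ModuleCat.hom_ext (LinearMap.ext
          fun (z : Cochain K V n) => by
            show (z.comp (Cochain.ofHom (mappingCone.inr φ)) (add_zero n)).comp (mappingCone.fst φ).1 rfl = 0
            rw [Cochain.comp_assoc_of_second_is_zero_cochain, mappingCone.inr_fst, Cochain.comp_zero])
        have e₂ : ((DRing.homCxFunctor K).map (mappingCone.inr φ)).f n ≫ back₂ = 𝟙 _ := ModuleCat.hom_ext (LinearMap.ext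
          fun (z : Cochain K V n) => by
            show (z.comp (Cochain.ofHom (mappingCone.inr φ)) (add_zero n)).comp (mappingCone.snd φ) (add_zero n) = z
            rw [Cochain.comp_assoc_of_third_is_zero_cochain, mappingCone.inr_snd, Cochain.comp_id])
        rw [reassoc_of% e₁, reassoc_of% e₂, zero_comp, zero_add, Category.comp_id]
    · simp only [Preadditive.add_comp, Category.assoc, coneMap]
      erw [mappingCone.inl_v_desc_f, mappingCone.inr_f_desc_f]
      refine ModuleCat.hom_ext (LinearMap.ext fun (z : Cochain K (mappingCone φ) n) => ?_)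
      show (show Cochain K (mappingCone φ) n from (compHom K (mappingCone.inl φ) (n + 1) n).hom
          (z.comp (mappingCone.fst φ).1 rfl)) +
        (z.comp (mappingCone.snd φ) (add_zero n)).comp (Cochain.ofHom (mappingCone.inr φ)) (add_zero n) = z
      rw [compHom_apply _ _ (n + 1) n rfl]
      exact (decomp_cochain K φ z).symm
  exact HomologicalComplex.Hom.isIso_of_components _

/-- Multiplication is bijective on Hom complexes into complexes where it is. -/
lemma smul_bijective_cochain (K : DRing.Cx A) {W : DRing.Cx A} (f : A)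
    (h : ∀ i, Function.Bijective (fun x : W.X i => f • x)) (n : ℤ) :
    Function.Bijective (fun z : Cochain K W n => f • z) := by
  refine ⟨fun z z' hz => ?_, fun z => ?_⟩
  · ext p q hpq x
    exact (h q).1 (congrArg (fun t : K.X p ⟶ W.X q => t.hom x) (congrArg (fun t => Cochain.v t p q hpq) hz))
  · let inv (q : ℤ) : W.X q →ₗ[A] W.X q :=
      (LinearEquiv.ofBijective (f • LinearMap.id : W.X q →ₗ[A] W.X q) (h q)).symm.toLinearMap
    refine ⟨Cochain.mk fun p q hpq => z.v p q hpq ≫ ModuleCat.ofHom (inv q), ?_⟩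
    ext p q hpq x
    exact (LinearEquiv.ofBijective (f • LinearMap.id : W.X q →ₗ[A] W.X q) (h q)).apply_symm_apply _

end Groth.Agent.H4DR.RHom
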