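import Groth.Agent.H4DR.RHom.Precomp
import Groth.Agent.H4DR.DComplete.Completion

/-!
# `RHom` out of a module in degree `0`, and iterated localizations
-/

set_option autoImplicit false
set_option linter.style.haveILetI false

universe u

open CategoryTheory CategoryTheory.Limits CochainComplex CochainComplex.HomComplex
open Groth.Agent.H4DR.DComplete
open scoped TensorProduct
open Groth.Agent.H16Derived

attribute [local instance] HasDerivedCategory.standard

namespace Groth.Agent.H4DR.RHom

variable {A : Type u} [CommRing A]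

/-- A module in degree `0`. -/
noncomputable abbrev sgl0 (N : ModuleCat.{u} A) : DRing.Cx A :=
  (CochainComplex.singleFunctor (ModuleCat.{u} A) 0).obj N

/-- Morphisms as linear maps. -/
noncomputable def homLin (M N : ModuleCat.{u} A) : (M ⟶ N) ≃ₗ[A] (M →ₗ[A] N) :=
  ModuleCat.homLinearEquiv (S := A)

/-- `Hom•(N, L) ⟶ Hom(N, L)` termwise. -/
noncomputable def evalSingle (N : ModuleCat.{u} A) (L : DRing.Cx A) : DRing.homCx (sgl0 N) L ⟶ coind N L where
  f i := ModuleCat.ofHom (X := Cochain (sgl0 N) L i) (Y := N →ₗ[A] L.X i)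
    { toFun := fun z => homLin N (L.X i)
        ((HomologicalComplex.singleObjXSelf (ComplexShape.up ℤ) 0 N).inv ≫ z.v 0 i (zero_add i))
      map_add' := fun z z' => (congrArg (homLin N (L.X i)) (Preadditive.comp_add _ _ _ _
        (z.v 0 i (zero_add i)) (z'.v 0 i (zero_add i)))).trans (map_add _ _ _)
      map_smul' := fun a z => (congrArg (homLin N (L.X i)) (Linear.comp_smul _ _ _ _ a
        (z.v 0 i (zero_add i)))).trans (map_smul _ _ _) }
  comm' i j hij := ModuleCat.hom_ext (LinearMap.ext fun (z : Cochain (sgl0 N) L i) => by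
    obtain ⟨φ, hφ⟩ := Cochain.fromSingleMk_surjective (X := N) (p := 0) z i (zero_add i)
    obtain rfl : i + 1 = j := hij
    show (L.d i (i + 1)).hom ∘ₗ ((HomologicalComplex.singleObjXSelf (ComplexShape.up ℤ) 0 N).inv ≫
        z.v 0 i (zero_add i)).hom =
      ((HomologicalComplex.singleObjXSelf (ComplexShape.up ℤ) 0 N).inv ≫
        (δ i (i + 1) z).v 0 (i + 1) (zero_add _)).hom
    rw [← hφ, Cochain.δ_fromSingleMk φ (zero_add i) (i + 1) (i + 1) (zero_add _), Cochain.fromSingleMk_v,
      Cochain.fromSingleMk_v, Iso.inv_hom_id_assoc, Iso.inv_hom_id_assoc]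
    rfl)

instance isIso_evalSingle (N : ModuleCat.{u} A) (L : DRing.Cx A) : IsIso (evalSingle N L) := by
  haveI : ∀ i, IsIso ((evalSingle N L).f i) := fun i => by
    rw [ConcreteCategory.isIso_iff_bijective]
    let e := Cochain.fromSingleEquiv (C := ModuleCat.{u} A) (X := N) (K := L) (zero_add i)
    show Function.Bijective ((homLin N (L.X i)) ∘ e)
    exact (homLin N (L.X i)).bijective.comp e.bijective
  exact HomologicalComplex.Hom.isIso_of_components _

/-- Currying. -/
noncomputable def curryIso (N N' : ModuleCat.{u} A) :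
    homF N' ⋙ homF N ≅ homF (ModuleCat.of A (N ⊗[A] N')) :=
  NatIso.ofComponents (fun M =>
    (TensorProduct.lift.equiv (RingHom.id A) N N' M).toModuleIso) (fun g => by
      refine ModuleCat.hom_ext (LinearMap.ext fun (u : N →ₗ[A] N' →ₗ[A] _) => TensorProduct.ext' fun x y => ?_)
      rfl)

/-- An isomorphism in the module. -/
noncomputable def homFIso {N N' : ModuleCat.{u} A} (e : N ≃ₗ[A] N') : homF N ≅ homF N' :=
  NatIso.ofComponents (fun _ => (LinearEquiv.congrLeft _ A e).toModuleIso) (fun _ => rfl)

/-- `A_f ⊗ A_g ≅ A_{fg}`. -/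
noncomputable def locTensor (f g : A) :
    (Localization.Away f ⊗[A] Localization.Away g) ≃ₐ[A] Localization.Away (f * g) :=
  have hf : IsUnit (algebraMap A (Localization.Away (f * g)) f) :=
    isUnit_of_mul_isUnit_left (y := algebraMap A _ g)
      (by rw [← map_mul]; exact IsLocalization.Away.algebraMap_isUnit (f * g))
  have hg : IsUnit (algebraMap A (Localization.Away (f * g)) g) :=
    isUnit_of_mul_isUnit_right (x := algebraMap A _ f)
      (by rw [← map_mul]; exact IsLocalization.Away.algebraMap_isUnit (f * g))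
  have hfg : IsUnit (algebraMap A (Localization.Away f ⊗[A] Localization.Away g) (f * g)) := by
    rw [map_mul]
    refine IsUnit.mul ?_ ?_
    · have := (IsLocalization.Away.algebraMap_isUnit (S := Localization.Away f) f).map
        (Algebra.TensorProduct.includeLeft (R := A) (S := A) (B := Localization.Away g))
      rwa [AlgHom.commutes] at this
    · have := (IsLocalization.Away.algebraMap_isUnit (S := Localization.Away g) g).map
        (Algebra.TensorProduct.includeRight (R := A) (A := Localization.Away f))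
      rwa [AlgHom.commutes] at this
  AlgEquiv.ofAlgHom
    (Algebra.TensorProduct.lift
      ⟨IsLocalization.Away.lift f hf, fun a => IsLocalization.Away.lift_eq f hf a⟩
      ⟨IsLocalization.Away.lift g hg, fun a => IsLocalization.Away.lift_eq g hg a⟩
      (fun _ _ => Commute.all _ _))
    ⟨IsLocalization.Away.lift (f * g) hfg, fun a => IsLocalization.Away.lift_eq (f * g) hfg a⟩
    (IsLocalization.algHom_ext (Submonoid.powers (f * g)) (Subsingleton.elim _ _))
    (Algebra.TensorProduct.ext (IsLocalization.algHom_ext (Submonoid.powers f) (Subsingleton.elim _ _))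
      (IsLocalization.algHom_ext (Submonoid.powers g) (Subsingleton.elim _ _)))

/-- `Hom(A_f, Hom(A_g, -)) ≅ Hom(A_{fg}, -)` on complexes. -/
noncomputable def coindCompIso (f g : A) (J : DRing.Cx A) :
    coind (loc f) (coind (loc g) J) ≅ coind (loc (f * g)) J :=
  (Functor.mapHomologicalComplexCompIso (F := homF (loc g)) (G := homF (loc f)) (H := homF (loc (f * g)))
    (curryIso (loc f) (loc g) ≪≫ homFIso (N' := loc (f * g)) (locTensor f g).toLinearEquiv)
    (ComplexShape.up ℤ)).app J

/-- `RHom(A_f, RHom(A_g, K)) ≅ RHom(A_{fg}, K)`. -/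
theorem nonempty_rhom_loc_comp (f g : A) [DRing.HasRHomCx (sgl0 (loc f))] [DRing.HasRHomCx (sgl0 (loc g))]
    [DRing.HasRHomCx (sgl0 (loc (f * g)))] (K : Dual.D A) :
    Nonempty ((DRing.RHomCx (sgl0 (loc f))).obj ((DRing.RHomCx (sgl0 (loc g))).obj K) ≅
      (DRing.RHomCx (sgl0 (loc (f * g)))).obj K) := by
  obtain ⟨N, j, hN⟩ := KInjRes.exists_resolution_functor (A := ModuleCat.{u} A)
  let X := DerivedCategory.Q.objPreimage K
  haveI := (hN X).2.1
  let J := N.obj X
  haveI : CochainComplex.IsKInjective J := (hN X).2.2.1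
  haveI := isKInjective_coind g J
  let eK : DRing.toD J ≅ K :=
    (asIso (DerivedCategory.Q.map (j.app X))).symm ≪≫ DerivedCategory.Q.objObjPreimageIso K
  let eg : (DRing.RHomCx (sgl0 (loc g))).obj K ≅ DRing.toD (coind (loc g) J) :=
    (DRing.RHomCx (sgl0 (loc g))).mapIso eK.symm ≪≫ rhomObj _ J ≪≫
      asIso (DerivedCategory.Q.map (evalSingle (loc g) J))
  exact ⟨(DRing.RHomCx (sgl0 (loc f))).mapIso eg ≪≫ rhomObj _ (coind (loc g) J) ≪≫
    asIso (DerivedCategory.Q.map (evalSingle (loc f) (coind (loc g) J))) ≪≫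
    DerivedCategory.Q.mapIso (coindCompIso f g J) ≪≫
    (asIso (DerivedCategory.Q.map (evalSingle (loc (f * g)) J))).symm ≪≫ (rhomObj _ J).symm ≪≫
    (DRing.RHomCx (sgl0 (loc (f * g)))).mapIso eK⟩

end Groth.Agent.H4DR.RHom
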