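import Groth.Agent.H4DR.RHom.Complete
import Groth.Agent.H4DR.RHom.Precomp
import Groth.Prelude.Def_DerCA

/-!
# Derived completion as `RHom` out of the Čech complex
-/

set_option autoImplicit false
set_option linter.style.haveILetI false

universe u

open CategoryTheory CategoryTheory.Limits CochainComplex CochainComplex.HomComplex Pretriangulated
open Groth.Agent.H4DR.DComplete
open Groth.Agent.H16Derived

attribute [local instance] HasDerivedCategory.standard

namespace Groth.Agent.H4DR.RHom

variable {A : Type u} [CommRing A]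

/-- The localization of a complex at `f`. -/
noncomputable abbrev locC (f : A) (C : DRing.Cx A) : DRing.Cx A := (DerCA.locCx (Submonoid.powers f)).obj C

/-- The map to the localization. -/
noncomputable abbrev locη (f : A) (C : DRing.Cx A) : C ⟶ locC f C := DerCA.locCxUnit (Submonoid.powers f) C

lemma smul_bijective_locC (f : A) (C : DRing.Cx A) (i : ℤ) :
    Function.Bijective (fun x : (locC f C).X i => f • x) :=
  (Module.End.isUnit_iff _).1 (IsLocalizedModule.map_units (LocalizedModule.mkLinearMap (Submonoid.powers f) (C.X i))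
    ⟨f, Submonoid.mem_powers f⟩)

lemma units_of_bijective {f : A} {M : ModuleCat.{u} A} (hM : Function.Bijective (fun x : M => f • x))
    (x : Submonoid.powers f) : IsUnit ((algebraMap A (Module.End A M)) x) := by
  obtain ⟨_, n, rfl⟩ := x
  have h1 : IsUnit (algebraMap A (Module.End A M) f) := (Module.End.isUnit_iff _).2 hM
  simpa using h1.pow n

lemma hom_ext_locη {f : A} {M N : ModuleCat.{u} A} (hN : Function.Bijective (fun x : N => f • x))
    {a b : (DerCA.locFunctor (Submonoid.powers f)).obj M ⟶ N}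
    (h : (DerCA.locUnit (Submonoid.powers f)).app M ≫ a = (DerCA.locUnit (Submonoid.powers f)).app M ≫ b) :
    a = b :=
  ModuleCat.hom_ext (IsLocalizedModule.ext (Submonoid.powers f)
    (LocalizedModule.mkLinearMap (Submonoid.powers f) M) (units_of_bijective hN)
    (congrArg ModuleCat.Hom.hom h))

lemma cx_ext_locη {f : A} {C W : DRing.Cx A} (hW : ∀ i, Function.Bijective (fun x : W.X i => f • x))
    {a b : locC f C ⟶ W} (h : locη f C ≫ a = locη f C ≫ b) : a = b := by
  ext i : 1
  exact hom_ext_locη (hW i) (congrArg (fun t => HomologicalComplex.Hom.f t i) h)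

/-- The extension of a map to the localization. -/
noncomputable def extend {f : A} {M N : ModuleCat.{u} A} (hN : Function.Bijective (fun x : N => f • x))
    (g : M ⟶ N) : (DerCA.locFunctor (Submonoid.powers f)).obj M ⟶ N :=
  ModuleCat.ofHom (IsLocalizedModule.lift (Submonoid.powers f)
    (LocalizedModule.mkLinearMap (Submonoid.powers f) M) g.hom (units_of_bijective hN))

lemma locUnit_extend {f : A} {M N : ModuleCat.{u} A} (hN : Function.Bijective (fun x : N => f • x))
    (g : M ⟶ N) : (DerCA.locUnit (Submonoid.powers f)).app M ≫ extend hN g = g :=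
  ModuleCat.hom_ext (IsLocalizedModule.lift_comp (Submonoid.powers f)
    (LocalizedModule.mkLinearMap (Submonoid.powers f) M) g.hom (units_of_bijective hN))

lemma exists_extend {f : A} {C W : DRing.Cx A} (hW : ∀ i, Function.Bijective (fun x : W.X i => f • x))
    (g : C ⟶ W) : ∃ g' : locC f C ⟶ W, locη f C ≫ g' = g := by
  refine ⟨{ f := fun i => extend (hW i) (g.f i), comm' := fun i j _ => hom_ext_locη (hW j) ?_ }, ?_⟩
  · refine (Category.assoc _ _ _).symm.trans (((congrArg (· ≫ W.d i j) (locUnit_extend (hW i) (g.f i))).trans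
      (g.comm i j)).trans ?_)
    have hn : (DerCA.locUnit (Submonoid.powers f)).app (C.X i) ≫ (locC f C).d i j =
        C.d i j ≫ (DerCA.locUnit (Submonoid.powers f)).app (C.X j) :=
      ((DerCA.locUnit (Submonoid.powers f)).naturality (C.d i j)).symm
    exact (((congrArg (C.d i j ≫ ·) (locUnit_extend (hW j) (g.f j))).symm.trans
      (Category.assoc _ _ _).symm).trans (congrArg (· ≫ extend (hW j) (g.f j)) hn.symm)).trans (Category.assoc _ _ _)
  · ext i : 1
    exact locUnit_extend (hW i) (g.f i)

/-- Maps out of a localization into an `f`-invertible K-injective complex. -/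
theorem bijective_precomp_locη {f : A} (C W : DRing.Cx A) [CochainComplex.IsKInjective W]
    (hW : ∀ i, Function.Bijective (fun x : W.X i => f • x)) :
    Function.Bijective (fun x : DRing.toD (locC f C) ⟶ DRing.toD W => DerivedCategory.Q.map (locη f C) ≫ x) := by
  refine ⟨fun a b hab => ?_, fun y => ?_⟩
  · obtain ⟨ga, rfl⟩ := exists_Q_map_eq a
    obtain ⟨gb, rfl⟩ := exists_Q_map_eq b
    have h0 : DerivedCategory.Q.map (locη f C ≫ (ga - gb)) = 0 := by
      rw [Functor.map_comp, Functor.map_sub, Preadditive.comp_sub, sub_eq_zero]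
      exact hab
    obtain ⟨H⟩ := nonempty_homotopy_of_Q_map _ h0
    let H' : ∀ i j, (ComplexShape.up ℤ).Rel j i → ((locC f C).X i ⟶ W.X j) := fun i j _ => extend (hW j) (H.hom i j)
    have hH : ga - gb = Homotopy.nullHomotopicMap' H' := by
      ext i : 1
      refine hom_ext_locη (hW i) ?_
      rw [Homotopy.nullHomotopicMap'_f (show (ComplexShape.up ℤ).Rel (i - 1) i by simp)
        (show (ComplexShape.up ℤ).Rel i (i + 1) by simp)]
      have hn : (DerCA.locUnit (Submonoid.powers f)).app (C.X i) ≫ (locC f C).d i (i + 1) =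
          C.d i (i + 1) ≫ (DerCA.locUnit (Submonoid.powers f)).app (C.X (i + 1)) :=
        ((DerCA.locUnit (Submonoid.powers f)).naturality (C.d i (i + 1))).symm
      have hc := H.comm i
      rw [dNext_eq _ (show (ComplexShape.up ℤ).Rel i (i + 1) by simp),
        prevD_eq _ (show (ComplexShape.up ℤ).Rel (i - 1) i by simp), HomologicalComplex.zero_f, add_zero] at hc
      have e1 : (DerCA.locUnit (Submonoid.powers f)).app (C.X i) ≫ (locC f C).d i (i + 1) ≫ H' (i + 1) i rfl =
          C.d i (i + 1) ≫ H.hom (i + 1) i := by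
        refine (Category.assoc _ _ _).symm.trans ((congrArg (· ≫ _) hn).trans ((Category.assoc _ _ _).trans ?_))
        exact congrArg (C.d i (i + 1) ≫ ·) (locUnit_extend (hW i) _)
      have e2 : (DerCA.locUnit (Submonoid.powers f)).app (C.X i) ≫ H' i (i - 1) (by simp) ≫ W.d (i - 1) i =
          H.hom i (i - 1) ≫ W.d (i - 1) i :=
        (Category.assoc _ _ _).symm.trans (congrArg (· ≫ _) (locUnit_extend (hW (i - 1)) _))
      exact hc.trans ((congrArg₂ (· + ·) e1 e2).symm.trans (Preadditive.comp_add _ _ _ _ _ _).symm)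
    rw [← sub_eq_zero, ← Functor.map_sub, hH,
      DerivedCategory.Q_map_eq_of_homotopy (h := Homotopy.nullHomotopy' H'), Functor.map_zero]
  · obtain ⟨g, rfl⟩ := exists_Q_map_eq y
    obtain ⟨g', hg'⟩ := exists_extend hW g
    exact ⟨DerivedCategory.Q.map g', (DerivedCategory.Q.map_comp _ _).symm.trans (congrArg _ hg')⟩

/-- `g` stays invertible on `Hom(A_f, -)`. -/
lemma smul_bijective_coind_X (g f : A) (V : DRing.Cx A) (hV : ∀ i, Function.Bijective (fun x : V.X i => g • x))
    (i : ℤ) : Function.Bijective (fun x : (coind (loc f) V).X i => g • x) := by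
  let e : V.X i ≃ₗ[A] V.X i := LinearEquiv.ofBijective (LinearMap.lsmul A (V.X i) g) (hV i)
  refine ⟨fun (u v : Localization.Away f →ₗ[A] V.X i) huv => LinearMap.ext fun x => (hV i).1 ?_,
    fun (v : Localization.Away f →ₗ[A] V.X i) => ⟨e.symm.toLinearMap ∘ₗ v, ?_⟩⟩
  · exact LinearMap.congr_fun (show g • u = g • v from huv) x
  · refine LinearMap.ext fun x => ?_
    exact e.apply_symm_apply (v x)

/-- Orthogonality to the first term of a triangle. -/
lemma eq_zero_of_precomp {T : Triangle (Dual.D A)} (hT : T ∈ distTriang (Dual.D A)) {X : Dual.D A}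
    (hs : Function.Surjective (fun y : T.obj₃ ⟶ X => T.mor₂ ≫ y))
    (hi : Function.Injective (fun y : T.obj₃ ⟶ X⟦(1 : ℤ)⟧ => T.mor₂ ≫ y)) (x : T.obj₁ ⟶ X) : x = 0 := by
  have h3 : T.mor₃ ≫ (CategoryTheory.shiftFunctor (Dual.D A) (1 : ℤ)).map x = 0 := hi (by
    show T.mor₂ ≫ T.mor₃ ≫ _ = T.mor₂ ≫ 0
    rw [← Category.assoc, comp_distTriang_mor_zero₂₃ _ hT, zero_comp, comp_zero])
  obtain ⟨z, hz0⟩ := Triangle.yoneda_exact₃ T.rotate (rot_of_distTriang _ hT) _ h3
  obtain ⟨w, hz⟩ : ∃ w : T.obj₂⟦(1 : ℤ)⟧ ⟶ X⟦(1 : ℤ)⟧,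
      (CategoryTheory.shiftFunctor (Dual.D A) (1 : ℤ)).map x =
        (-(CategoryTheory.shiftFunctor (Dual.D A) (1 : ℤ)).map T.mor₁) ≫ w := ⟨z, hz0⟩
  obtain ⟨z', rfl⟩ := (CategoryTheory.shiftFunctor (Dual.D A) (1 : ℤ)).map_surjective w
  have hx : x = -(T.mor₁ ≫ z') := (CategoryTheory.shiftFunctor (Dual.D A) (1 : ℤ)).map_injective (by
    rw [Functor.map_neg, Functor.map_comp, hz]
    exact Preadditive.neg_comp _ _)
  obtain ⟨z'', rfl⟩ := hs z'
  rw [hx, ← Category.assoc, comp_distTriang_mor_zero₁₂ _ hT, zero_comp, neg_zero]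

/-- Orthogonality to the third term of a triangle. -/
lemma bijective_precomp_mor₁ {T : Triangle (Dual.D A)} (hT : T ∈ distTriang (Dual.D A)) {X : Dual.D A}
    (h0 : ∀ y : T.obj₃ ⟶ X, y = 0) (h1 : ∀ y : T.obj₃ ⟶ X⟦(1 : ℤ)⟧, y = 0) :
    Function.Bijective (fun y : T.obj₂ ⟶ X => T.mor₁ ≫ y) := by
  refine ⟨fun a b hab => ?_, fun x => ?_⟩
  · obtain ⟨z, hz⟩ := Triangle.yoneda_exact₂ T hT (a - b) (by
      rw [Preadditive.comp_sub, sub_eq_zero]
      exact hab)
    rw [h0 z, comp_zero, sub_eq_zero] at hz
    exact hz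
  · obtain ⟨z, hz0⟩ := Triangle.yoneda_exact₃ T.rotate (rot_of_distTriang _ hT)
      ((CategoryTheory.shiftFunctor (Dual.D A) (1 : ℤ)).map x) (h1 _)
    obtain ⟨w, hz⟩ : ∃ w : T.obj₂⟦(1 : ℤ)⟧ ⟶ X⟦(1 : ℤ)⟧,
        (CategoryTheory.shiftFunctor (Dual.D A) (1 : ℤ)).map x =
          (-(CategoryTheory.shiftFunctor (Dual.D A) (1 : ℤ)).map T.mor₁) ≫ w := ⟨z, hz0⟩
    obtain ⟨z', rfl⟩ := (CategoryTheory.shiftFunctor (Dual.D A) (1 : ℤ)).map_surjective w
    refine ⟨-z', (CategoryTheory.shiftFunctor (Dual.D A) (1 : ℤ)).map_injective ?_⟩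
    show (CategoryTheory.shiftFunctor (Dual.D A) (1 : ℤ)).map (T.mor₁ ≫ (-z')) = _
    rw [Functor.map_comp, Functor.map_neg, hz, Preadditive.comp_neg]
    exact (Preadditive.neg_comp _ _).symm

/-- The Čech complex of `A`. -/
noncomputable abbrev cech (fs : List A) : DRing.Cx A := DerCA.extCech (ModuleCat.of A A) fs

/-- Maps from the Čech complex to complexes where some `g` in the list is invertible vanish. -/
theorem hom_cech_eq_zero {g : A} : ∀ (fs : List A), g ∈ fs → ∀ (W : DRing.Cx A) [CochainComplex.IsKInjective W],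
    (∀ i, Function.Bijective (fun x : W.X i => g • x)) → ∀ x : DRing.toD (cech fs) ⟶ DRing.toD W, x = 0 := by
  intro fs
  induction fs with
  | nil => exact fun h => absurd h List.not_mem_nil
  | cons f fs ih =>
    intro hg W _ hW x
    have key : ∀ (V : DRing.Cx A) [CochainComplex.IsKInjective V],
        (∀ i, Function.Bijective (fun x : V.X i => g • x)) →
        Function.Bijective (fun y : DRing.toD (locC f (cech fs)) ⟶ DRing.toD V =>
          DerivedCategory.Q.map (locη f (cech fs)) ≫ y) := by
      intro V _ hV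
      by_cases hgf : g = f
      · subst hgf
        exact bijective_precomp_locη (cech fs) V hV
      · have hmem : g ∈ fs := (List.mem_cons.1 hg).resolve_left hgf
        have hzero : ∀ y : DRing.toD (locC f (cech fs)) ⟶ DRing.toD V, y = 0 := fun y => by
          obtain ⟨h, rfl⟩ := exists_Q_map_eq y
          haveI : IsIso (DComplete.ev f (locC f (cech fs))) := isIso_ev f _ (smul_bijective_locC f _)
          haveI := isKInjective_coind f V
          let ψ := inv (DComplete.ev f (locC f (cech fs))) ≫
            ((homF (loc f)).mapHomologicalComplex (ComplexShape.up ℤ)).map h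
          have hψ : ψ ≫ DComplete.ev f V = h := by
            rw [Category.assoc, IsIso.inv_comp_eq]
            ext i : 1
            refine ModuleCat.hom_ext (LinearMap.ext fun z => ?_)
            rfl
          have hz : DerivedCategory.Q.map ψ = 0 :=
            (bijective_precomp_locη (f := f) (cech fs) (coind (loc f) V) (fun i => smul_bijective_homF f (V.X i))).1
              ((ih hmem _ (fun i => smul_bijective_coind_X g f V hV i) _).trans comp_zero.symm)
          rw [← hψ, Functor.map_comp, hz, zero_comp]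
        exact ⟨fun a b _ => (hzero a).trans (hzero b).symm,
          fun y => ⟨0, comp_zero.trans (ih hmem V hV y).symm⟩⟩
    refine eq_zero_of_precomp (DerivedCategory.mappingCocone_triangle_distinguished (locη f (cech fs)))
      (key W hW).2 (fun a b hab => ?_) x
    refine (cancel_mono ((DerivedCategory.Q.commShiftIso (1 : ℤ)).inv.app W)).1 ?_
    refine (key (W⟦(1 : ℤ)⟧) (fun i => hW (i + 1))).1 ?_
    exact (Category.assoc _ _ _).symm.trans ((congrArg (· ≫ _) hab).trans (Category.assoc _ _ _))

/-- `RHom(Č, -)` kills `Hom(A_g, -)`. -/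
theorem acyclic_homCx_cech_coind {g : A} (fs : List A) (hg : g ∈ fs) (J : DRing.Cx A)
    [CochainComplex.IsKInjective J] : (DRing.homCx (cech fs) (coind (loc g) J)).Acyclic := fun n => by
  haveI := isKInjective_coind g J
  refine exactAt_homCx_of_subsingleton _ _ n (subsingleton_of_forall_eq 0 fun x => ?_)
  refine (cancel_mono ((DerivedCategory.Q.commShiftIso n).inv.app _)).1 ?_
  rw [zero_comp]
  exact hom_cech_eq_zero fs hg _ (fun i => smul_bijective_homF g (J.X (i + n))) _

/-- The augmentation. -/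
noncomputable def aug : ∀ fs : List A, cech fs ⟶ unitCx A
  | [] => 𝟙 _
  | f :: fs => mappingCocone.fst (locη f (cech fs)) ≫ aug fs

instance isIso_aug_nil : IsIso (aug ([] : List A)) := inferInstanceAs (IsIso (𝟙 (unitCx A)))

/-- Complete objects do not see the difference between the Čech complex and `A`. -/
theorem bijective_precomp_aug {I : Ideal A} : ∀ (fs : List A), (∀ f ∈ fs, f ∈ I) → ∀ (E : Dual.D A),
    DRing.IsDerivedComplete I E →
    Function.Bijective (fun x : DRing.toD (unitCx A) ⟶ E => DerivedCategory.Q.map (aug fs) ≫ x) := by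
  intro fs
  induction fs with
  | nil =>
    intro _ E _
    exact ⟨fun a b h => (cancel_epi (DerivedCategory.Q.map (aug ([] : List A)))).1 h,
      fun y => ⟨inv (DerivedCategory.Q.map (aug ([] : List A))) ≫ y, IsIso.hom_inv_id_assoc _ _⟩⟩
  | cons f fs ih =>
    intro hI E hE
    have hf : f ∈ I := hI f List.mem_cons_self
    refine Eq.mp (congrArg Function.Bijective (funext fun x => ((congrArg (· ≫ x)
      ((DerivedCategory.Q.map_comp (mappingCocone.fst (locη f (cech fs))) (aug fs)))).trans
      (Category.assoc _ _ _)).symm)) ?_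
    exact (bijective_precomp_mor₁ (DerivedCategory.mappingCocone_triangle_distinguished (locη f (cech fs)))
      (fun y => DComplete.hom_eq_zero hf _ (smul_bijective_locC f _) hE y)
      (fun y => DComplete.hom_eq_zero hf _ (smul_bijective_locC f _) (isDerivedComplete_shift hE 1) y)).comp
      (ih (fun x hx => hI x (List.mem_cons_of_mem _ hx)) E hE)

/-- Derived completion is `RHom` out of the Čech complex. -/
theorem nonempty_iso_rhom_cech (fs : List A) (s : Finset A) (hs : ∀ x, x ∈ s ↔ x ∈ fs) {I : Ideal A}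
    (hI : Ideal.span (s : Set A) = I) [DRing.HasDerivedCompletion I] [DRing.HasRHomCx (cech fs)] (K : Dual.D A) :
    Nonempty (((DRing.derivedCompletion I).obj K).obj ≅ (DRing.RHomCx (cech fs)).obj K) := by
  subst hI
  obtain ⟨N, j, hN⟩ := KInjRes.exists_resolution_functor (A := ModuleCat.{u} A)
  let X := DerivedCategory.Q.objPreimage K
  haveI := (hN X).2.1
  let J := N.obj X
  haveI : CochainComplex.IsKInjective J := (hN X).2.2.1
  haveI : ∀ i, Injective (J.X i) := (hN X).2.2.2
  let eK : DRing.toD J ≅ K :=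
    (asIso (DerivedCategory.Q.map (j.app X))).symm ≪≫ DerivedCategory.Q.objObjPreimageIso K
  obtain ⟨J', η, hJ', hinj, hac, hbij, hbijK⟩ := exists_completion_chain s J
  haveI := hJ'
  haveI := hinj
  have hη : IsCompletion (Ideal.span (s : Set A)) (DerivedCategory.Q.map η) :=
    ⟨isDerivedComplete_of_acyclic_coind s J' hac, hbij⟩
  obtain ⟨e, -⟩ := hη.exists_iso ((isCompletion_unit (I := Ideal.span (s : Set A)) K).of_iso eK.symm (Iso.refl _))
  have hC : IsCompletion (Ideal.span (s : Set A))
      (DerivedCategory.Q.map ((DRing.homCxFunctor (cech fs)).map η)) :=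
    ⟨(isDerivedComplete_span_iff _ _).2 fun g hg n => bij_homCx g _ J' (hac g (Finset.mem_coe.1 hg)) n,
      hbijK (cech fs)⟩
  have hid : IsCompletion (Ideal.span (s : Set A)) (𝟙 (DRing.toD (DRing.homCx (cech fs) J))) :=
    ⟨(isDerivedComplete_span_iff _ _).2 fun g hg n =>
      bij_homCx' g _ J (acyclic_homCx_cech_coind fs ((hs g).1 (Finset.mem_coe.1 hg)) J) n,
      fun E _ => ⟨fun a b h => by simpa using h, fun y => ⟨y, Category.id_comp y⟩⟩⟩
  obtain ⟨e₂, -⟩ := hid.exists_iso hC
  haveI : QuasiIso (homCxPre (aug fs) J') := quasiIso_homCxPre _ J' fun n =>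
    bijective_precomp_aug fs (fun f hf => Ideal.subset_span (Finset.mem_coe.2 ((hs f).2 hf))) _
      (isDerivedComplete_of_iso ((DerivedCategory.Q.commShiftIso n).app J').symm
        (isDerivedComplete_shift hη.complete n))
  exact ⟨e.symm ≪≫ (asIso (DerivedCategory.Q.map (evalOne J'))).symm ≪≫
    asIso (DerivedCategory.Q.map (homCxPre (aug fs) J')) ≪≫ e₂.symm ≪≫ (rhomObj (cech fs) J).symm ≪≫
    (DRing.RHomCx (cech fs)).mapIso eK⟩

end Groth.Agent.H4DR.RHom
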