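import Groth.Agent.H4DR.RHom.Classes
import Groth.Agent.H16Derived.AcyclicLES
import Mathlib.Algebra.Homology.HomotopyCategory.KProjective

/-!
# `RHom` out of bounded above complexes of projectives
-/

set_option autoImplicit false
set_option linter.style.haveILetI false

universe u

open CategoryTheory CategoryTheory.Limits CochainComplex
open Groth.Agent.H16Derived

attribute [local instance] HasDerivedCategory.standard

namespace Groth.Agent.H4DR.RHom

variable {A : Type u} [CommRing A]

/-- `Hom•(P, -)` preserves quasi-isomorphisms for K-projective `P`. -/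
theorem quasiIso_homCxMap_of_kproj (P : DRing.Cx A) [CochainComplex.IsKProjective P] {L J : DRing.Cx A}
    (φ : L ⟶ J) [QuasiIso φ] : QuasiIso ((DRing.homCxFunctor P).map φ) := by
  rw [AcyclicLES.quasiIso_iff_acyclic_mappingCone]
  exact fun i => (acyclic_homCx_of_kproj P (mappingCone φ)
    ((AcyclicLES.quasiIso_iff_acyclic_mappingCone φ).1 ‹_›) i).of_iso (asIso (coneMap P φ)).symm

/-- `RHom(P, L) = Hom•(P, L)` for K-projective `P`. -/
theorem nonempty_rhom_iso_of_kproj (P : DRing.Cx A) [CochainComplex.IsKProjective P] [DRing.HasRHomCx P]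
    (L : DRing.Cx A) :
    Nonempty ((DRing.RHomCx P).obj (DRing.toD L) ≅ DRing.toD (DRing.homCx P L)) := by
  obtain ⟨N, j, hN⟩ := KInjRes.exists_resolution_functor (A := ModuleCat.{u} A)
  haveI := (hN L).2.1
  haveI : CochainComplex.IsKInjective (N.obj L) := (hN L).2.2.1
  haveI : QuasiIso (j.app L) := (hN L).2.1
  haveI := quasiIso_homCxMap_of_kproj P (j.app L)
  exact ⟨(DRing.RHomCx P).mapIso (asIso (DerivedCategory.Q.map (j.app L))) ≪≫ rhomObj P (N.obj L) ≪≫
    (asIso (DerivedCategory.Q.map ((DRing.homCxFunctor P).map (j.app L)))).symm⟩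

end Groth.Agent.H4DR.RHom
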