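import Groth.Agent.H4DR.RHom.HomKFlat
import Groth.Agent.H4DR.RHom.Proj
import Groth.Agent.H4DR.RHom.Classes
import Mathlib.LinearAlgebra.Dual.Lemmas
import Groth.Agent.H16Derived.ProjLift

/-!
# Biduality for perfect complexes
-/

set_option autoImplicit false
set_option linter.style.haveILetI false

universe u

open CategoryTheory CategoryTheory.Limits CochainComplex.HomComplex
open Groth.Agent.H16Derived

attribute [local instance] HasDerivedCategory.standard

namespace Groth.Agent.H4DR.RHom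

variable {A : Type u} [CommRing A]

/-- Cochains to the unit complex. -/
noncomputable def toUnit (E : DRing.Cx A) (p n : ℤ) (h : p + n = 0) :
    Cochain E (unitCx A) n ≃ₗ[A] (E.X p →ₗ[A] A) :=
  ({ Cochain.toSingleEquiv (K := E) (X := ModuleCat.of A A) h with
      map_smul' := fun a z => by simp [Cochain.toSingleEquiv] } :
    Cochain E (unitCx A) n ≃ₗ[A] (E.X p ⟶ ModuleCat.of A A)).trans
      (ModuleCat.homLinearEquiv (S := A))

lemma toUnit_δ (E : DRing.Cx A) (p p' n n' : ℤ) (h : p + n = 0) (h' : p' + n' = 0)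
    (z : Cochain E (unitCx A) n) :
    toUnit E p' n' h' (δ n n' z) = n'.negOnePow • ((toUnit E p n h z) ∘ₗ (E.d p' p).hom) := by
  obtain ⟨f, rfl⟩ := Cochain.toSingleMk_surjective z p h
  rw [Cochain.δ_toSingleMk f h n' p' h']
  show ((Cochain.toSingleEquiv h') (n'.negOnePow • Cochain.toSingleMk (E.d p' p ≫ f) h')).hom =
    n'.negOnePow • (((Cochain.toSingleEquiv h) (Cochain.toSingleMk f h)).hom ∘ₗ (E.d p' p).hom)
  rw [Units.smul_def, map_zsmul, Cochain.toSingleEquiv_toSingleMk, Cochain.toSingleEquiv_toSingleMk]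
  rfl

/-- The dual of a bounded complex of finite projective modules. -/
theorem dual_bounded {E : DRing.Cx A} {a b : ℤ} (hE : DRing.VanishesOutside E a b)
    (hF : DRing.TermwiseFiniteProjective E) :
    DRing.VanishesOutside (DRing.homCx E (unitCx A)) (-b) (-a) ∧
      DRing.TermwiseFiniteProjective (DRing.homCx E (unitCx A)) := by
  refine ⟨fun i hi => ?_, fun i => ?_⟩
  · haveI := ModuleCat.subsingleton_of_isZero (hE (-i) (by omega))
    haveI : Subsingleton (E.X (-i) →ₗ[A] A) := ⟨fun f g => LinearMap.ext fun x => by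
      rw [Subsingleton.elim x 0, map_zero, map_zero]⟩
    haveI : Subsingleton (Cochain E (unitCx A) i) := (toUnit E (-i) i (neg_add_cancel i)).toEquiv.subsingleton
    exact ModuleCat.isZero_of_subsingleton (ModuleCat.of A (Cochain E (unitCx A) i))
  · haveI := (hF (-i)).1
    haveI := (hF (-i)).2
    let e := (toUnit E (-i) i (neg_add_cancel i)).symm
    exact ⟨Module.Finite.equiv e, Module.Projective.of_equiv e⟩

/-- Evaluation at `x`. -/
noncomputable def ev (E : DRing.Cx A) (i : ℤ) :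
    E.X i →ₗ[A] ((DRing.homCx E (unitCx A)).X (-i) →ₗ[A] A) :=
  ((toUnit E i (-i) (add_neg_cancel i)).toLinearMap :
    (DRing.homCx E (unitCx A)).X (-i) →ₗ[A] (E.X i →ₗ[A] A)).flip

/-- The biduality map in degree `i`. -/
noncomputable def etaLin (E : DRing.Cx A) (i : ℤ) :
    E.X i →ₗ[A] Cochain (DRing.homCx E (unitCx A)) (unitCx A) i :=
  i.negOnePow.val • ((toUnit (DRing.homCx E (unitCx A)) (-i) i (neg_add_cancel i)).symm.toLinearMap ∘ₗ ev E i)

/-- The biduality map. -/
noncomputable def eta (E : DRing.Cx A) : E ⟶ DRing.homCx (DRing.homCx E (unitCx A)) (unitCx A) where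
  f i := ModuleCat.ofHom (Y := Cochain (DRing.homCx E (unitCx A)) (unitCx A) i) (etaLin E i)
  comm' i j hij := by
    obtain rfl : i + 1 = j := hij
    refine ModuleCat.hom_ext (LinearMap.ext fun x => ?_)
    show δ i (i + 1) (etaLin E i x) = etaLin E (i + 1) ((E.d i (i + 1)).hom x)
    apply (toUnit (DRing.homCx E (unitCx A)) (-(i + 1)) (i + 1) (neg_add_cancel _)).injective
    rw [toUnit_δ _ (-i) (-(i + 1)) i (i + 1) (neg_add_cancel i) (neg_add_cancel _)]
    simp only [etaLin, LinearMap.smul_apply, LinearMap.comp_apply, LinearEquiv.coe_coe, map_zsmul,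
      LinearEquiv.apply_symm_apply]
    refine LinearMap.ext fun (z : Cochain E (unitCx A) (-(i + 1))) => ?_
    show (i + 1).negOnePow • (i.negOnePow.val • (toUnit E i (-i) (add_neg_cancel i)
        (δ (-(i + 1)) (-i) z)) x) =
      (i + 1).negOnePow.val • (toUnit E (i + 1) (-(i + 1)) (add_neg_cancel _) z) ((E.d i (i + 1)).hom x)
    rw [toUnit_δ E (i + 1) i (-(i + 1)) (-i) (add_neg_cancel _) (add_neg_cancel i)]
    simp only [LinearMap.smul_apply, LinearMap.comp_apply, Units.smul_def, smul_smul, Int.negOnePow_neg]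
    rw [← Units.val_mul i.negOnePow, Int.units_mul_self, Units.val_one, mul_one]

theorem isIso_eta {E : DRing.Cx A} (hF : DRing.TermwiseFiniteProjective E) : IsIso (eta E) := by
  haveI : ∀ i, IsIso ((eta E).f i) := fun i => by
    rw [ConcreteCategory.isIso_iff_bijective]
    haveI := (hF i).1
    haveI := (hF i).2
    let T := toUnit (DRing.homCx E (unitCx A)) (-i) i (neg_add_cancel i)
    let W : (DRing.homCx E (unitCx A)).X (-i) ≃ₗ[A] Module.Dual A (E.X i) := toUnit E i (-i) (add_neg_cancel i)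
    let Φ : E.X i ≃ₗ[A] Cochain (DRing.homCx E (unitCx A)) (unitCx A) i :=
      (Module.evalEquiv A (E.X i)).trans (W.dualMap.trans T.symm)
    have hval : i.negOnePow.val * i.negOnePow.val = 1 := by
      rw [← Units.val_mul, Int.units_mul_self]; rfl
    show Function.Bijective (etaLin E i)
    have h : ∀ x, etaLin E i x = i.negOnePow.val • Φ x := fun x => rfl
    refine ⟨fun x y hxy => Φ.injective ?_, fun w => ⟨Φ.symm (i.negOnePow.val • w), ?_⟩⟩
    · have := congrArg (fun v => i.negOnePow.val • v) ((h x).symm.trans (hxy.trans (h y)))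
      simpa only [smul_smul, hval, one_smul] using this
    · rw [h, LinearEquiv.apply_symm_apply, smul_smul, hval, one_smul]
  exact HomologicalComplex.Hom.isIso_of_components (eta E)

/-- `RHom(E, L)` for any representative `E` of a K-projective complex. -/
theorem nonempty_rhom_iso_of_rep (P E : DRing.Cx A) [CochainComplex.IsKProjective P] [DRing.HasRHomCx E]
    (e : DRing.toD P ≅ DRing.toD E) (L : DRing.Cx A) :
    Nonempty ((DRing.RHomCx E).obj (DRing.toD L) ≅ DRing.toD (DRing.homCx P L)) := by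
  obtain ⟨N, j, hN⟩ := KInjRes.exists_resolution_functor (A := ModuleCat.{u} A)
  haveI : CochainComplex.IsKInjective (N.obj L) := (hN L).2.2.1
  haveI : QuasiIso (j.app L) := (hN L).2.1
  haveI := quasiIso_homCxMap_of_kproj P (j.app L)
  obtain ⟨g, hg⟩ := ProjLift.Q_map_surjective P E e.hom
  haveI : QuasiIso (homCxPre g (N.obj L)) := quasiIso_homCxPre g (N.obj L) fun n => by
    rw [hg]
    exact ⟨fun x y h => (cancel_epi e.hom).1 h, fun y => ⟨e.inv ≫ y, e.hom_inv_id_assoc y⟩⟩
  exact ⟨(DRing.RHomCx E).mapIso (asIso (DerivedCategory.Q.map (j.app L))) ≪≫ rhomObj E (N.obj L) ≪≫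
    asIso (DerivedCategory.Q.map (homCxPre g (N.obj L))) ≪≫
    (asIso (DerivedCategory.Q.map ((DRing.homCxFunctor P).map (j.app L)))).symm⟩

theorem biduality (K : Dual.D A) (hK : DRing.IsPerfect A K)
    (E : DRing.Cx A) (eK : DRing.toD E ≅ K) [DRing.HasRHomCx E] :
    DRing.IsPerfect A ((DRing.RHomCx E).obj (Dual.inD A A)) ∧
      ∀ (E' : DRing.Cx A) (_ : DRing.toD E' ≅ (DRing.RHomCx E).obj (Dual.inD A A)) [DRing.HasRHomCx E'],
        Nonempty ((DRing.RHomCx E').obj (Dual.inD A A) ≅ K) := by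
  obtain ⟨E₀, a, b, hE, hF, ⟨e₀⟩⟩ := hK
  have hP : TorAmp.IsProjRep E₀ b := ⟨fun i hi => hE i (Or.inr hi), fun i => (hF i).2⟩
  haveI := hP.isKProjective
  obtain ⟨hDb, hDF⟩ := dual_bounded hE hF
  have hP' : TorAmp.IsProjRep (DRing.homCx E₀ (unitCx A)) (-a) :=
    ⟨fun i hi => hDb i (Or.inr hi), fun i => (hDF i).2⟩
  haveI := hP'.isKProjective
  haveI := isIso_eta hF
  let eU : Dual.inD A A ≅ DRing.toD (unitCx A) := PCoh.inDIso (ModuleCat.of A A)
  obtain ⟨r⟩ := nonempty_rhom_iso_of_rep E₀ E (e₀ ≪≫ eK.symm) (unitCx A)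
  refine ⟨⟨_, -b, -a, hDb, hDF, ⟨r.symm ≪≫ ((DRing.RHomCx E).mapIso eU).symm⟩⟩, fun E' e' _ => ?_⟩
  obtain ⟨r'⟩ := nonempty_rhom_iso_of_rep (DRing.homCx E₀ (unitCx A)) E'
    (r.symm ≪≫ ((DRing.RHomCx E).mapIso eU).symm ≪≫ e'.symm) (unitCx A)
  exact ⟨(DRing.RHomCx E').mapIso eU ≪≫ r' ≪≫ (DerivedCategory.Q.mapIso (asIso (eta E₀))).symm ≪≫ e₀⟩

end Groth.Agent.H4DR.RHom
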