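import Groth.Agent.H4DR.RHom.Classes
import Groth.Agent.H4DR.DComplete.Universal

/-!
# `RHom` and derived completion
-/

set_option autoImplicit false
set_option linter.style.haveILetI false

universe u

open CategoryTheory CategoryTheory.Limits CochainComplex CochainComplex.HomComplex Pretriangulated
open Groth.Agent.H4DR.DComplete
open Groth.Agent.H16Derived
open scoped ZeroObject

attribute [local instance] HasDerivedCategory.standard

namespace Groth.Agent.H4DR.RHom

variable {A : Type u} [CommRing A]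

/-- `u` on `ℕ →₀ M`. -/
noncomputable def uM (f : A) (M : Type u) [AddCommGroup M] [Module A M] : (ℕ →₀ M) →ₗ[A] (ℕ →₀ M) :=
  LinearMap.id - f • Finsupp.lmapDomain M A Nat.succ

lemma uM_single (f : A) {M : Type u} [AddCommGroup M] [Module A M] (k : ℕ) (x : M) :
    uM f M (Finsupp.single k x) = Finsupp.single k x - Finsupp.single (k + 1) (f • x) := by
  simp [uM]

lemma injective_uM (f : A) (M : Type u) [AddCommGroup M] [Module A M] : Function.Injective (uM f M) := by
  refine (injective_iff_map_eq_zero _).2 fun x hx => ?_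
  have hc : ∀ k, x k - f • (Finsupp.mapDomain Nat.succ x) k = 0 := fun k => by
    have := DFunLike.congr_fun hx k
    simpa [uM] using this
  ext k
  induction k with
  | zero =>
    have := hc 0
    rwa [Finsupp.mapDomain_of_notMem_range _ _ (by simp), smul_zero, sub_zero] at this
  | succ k ih =>
    have := hc (k + 1)
    rwa [Finsupp.mapDomain_apply Nat.succ_injective, ih, Finsupp.coe_zero, Pi.zero_apply, smul_zero,
      sub_zero] at this

/-- Injective targets make the tower map surjective on maps. -/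
lemma exists_sol_hom (f : A) (M J : ModuleCat.{u} A) [Injective J] (s : ℕ → (M ⟶ J)) :
    ∃ m : ℕ → (M ⟶ J), ∀ k, m k = s k + f • m (k + 1) := by
  let U : ModuleCat.of A (ℕ →₀ M) ⟶ ModuleCat.of A (ℕ →₀ M) := ModuleCat.ofHom (uM f M)
  haveI : Mono U := (ModuleCat.mono_iff_injective _).2 (injective_uM f M)
  let σ : ModuleCat.of A (ℕ →₀ M) ⟶ J := ModuleCat.ofHom (Finsupp.lsum A fun k => (s k).hom)
  refine ⟨fun k => ModuleCat.ofHom (Finsupp.lsingle k) ≫ Injective.factorThru σ U, fun k => ?_⟩
  ext x
  have h := congrArg (fun t => t.hom (Finsupp.single k x)) (Injective.comp_factorThru σ U)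
  change (Injective.factorThru σ U).hom (uM f M (Finsupp.single k x)) =
    Finsupp.lsum A (fun k => (s k).hom) (Finsupp.single k x) at h
  rw [uM_single, map_sub, Finsupp.lsum_single] at h
  show (Injective.factorThru σ U).hom (Finsupp.single k x) =
    (s k).hom x + f • (Injective.factorThru σ U).hom (Finsupp.single (k + 1) x)
  rw [← h, ← map_smul, Finsupp.smul_single]
  exact (sub_add_cancel _ _).symm

lemma exists_sol_cochain (f : A) (K J : DRing.Cx A) [∀ i, Injective (J.X i)] (n : ℤ) (s : ℕ → Cochain K J n) :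
    ∃ m : ℕ → Cochain K J n, ∀ k, m k = s k + f • m (k + 1) := by
  choose m hm using fun (p q : ℤ) (h : p + n = q) => exists_sol_hom f (K.X p) (J.X q) fun k => (s k).v p q h
  exact ⟨fun k => Cochain.mk fun p q h => m p q h k, fun k => Cochain.ext _ _ fun p q h => hm p q h k⟩

/-- Evaluation at `f⁻ᵏ`. -/
noncomputable def evk (f : A) (k : ℕ) : homF (loc f) ⟶ 𝟭 (ModuleCat.{u} A) where
  app _ := ModuleCat.ofHom (LinearMap.applyₗ ((IsLocalization.Away.invSelf f : Localization.Away f) ^ k))
  naturality _ _ _ := rfl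

/-- Evaluation on complexes. -/
noncomputable def evkCx (f : A) (k : ℕ) (J : DRing.Cx A) : coind (loc f) J ⟶ J :=
  ((NatTrans.mapHomologicalComplex (evk f k) (ComplexShape.up ℤ)).app J) ≫
    (Functor.mapHomologicalComplexIdIso (ModuleCat.{u} A) (ComplexShape.up ℤ)).hom.app J

lemma evkCx_f (f : A) (k : ℕ) (J : DRing.Cx A) (q : ℤ) (u : Localization.Away f →ₗ[A] J.X q) :
    ((evkCx f k J).f q).hom u = u ((IsLocalization.Away.invSelf f : Localization.Away f) ^ k) := rfl

lemma evk_ext {f : A} {J : ModuleCat.{u} A} {u v : Localization.Away f →ₗ[A] J}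
    (h : ∀ k : ℕ, u ((IsLocalization.Away.invSelf f : Localization.Away f) ^ k) =
      v ((IsLocalization.Away.invSelf f : Localization.Away f) ^ k)) : u = v := by
  refine LinearMap.ext fun z => ?_
  obtain ⟨x, rfl⟩ := (shortExact_resolution f).2.2 z
  exact LinearMap.congr_fun (Finsupp.lhom_ext (φ := u ∘ₗ πMap f) (ψ := v ∘ₗ πMap f) fun k a => by
    simp only [LinearMap.comp_apply, πMap_single, map_smul, h]) x

lemma exists_hom_of_seq {f : A} {M J : ModuleCat.{u} A} (z : ℕ → (M ⟶ J)) (hz : ∀ k, z k = f • z (k + 1)) :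
    ∃ φ : M ⟶ (homF (loc f)).obj J, ∀ k, φ ≫ (evk f k).app J = z k := by
  let G : M →ₗ[A] ((ℕ →₀ A) →ₗ[A] J) := (Finsupp.lift (M →ₗ[A] J) A ℕ fun k => (z k).hom).flip
  have hGs : ∀ x k (a : A), G x (Finsupp.single k a) = a • (z k).hom x := fun x k a => by simp [G]
  have hG : ∀ x, G x ∘ₗ uMap f = 0 := fun x => Finsupp.lhom_ext fun k a => by
    rw [LinearMap.comp_apply, uMap_single, map_sub, hGs, hGs, hz k]
    simp [smul_smul, mul_comm]
  let e := (shortExact_resolution f).1.linearEquivOfSurjective (shortExact_resolution f).2.2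
  let φ : M →ₗ[A] (Localization.Away f →ₗ[A] J) :=
    { toFun := fun x => (Submodule.liftQ _ (G x) (LinearMap.range_le_ker_iff.2 (hG x))) ∘ₗ e.symm.toLinearMap
      map_add' := fun x y => LinearMap.ext fun w => by
        obtain ⟨w, rfl⟩ := e.surjective w
        obtain ⟨w, rfl⟩ := Submodule.mkQ_surjective _ w
        simp
      map_smul' := fun r x => LinearMap.ext fun w => by
        obtain ⟨w, rfl⟩ := e.surjective w
        obtain ⟨w, rfl⟩ := Submodule.mkQ_surjective _ w
        simp }
  refine ⟨ModuleCat.ofHom φ, fun k => ?_⟩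
  ext x
  show φ x ((IsLocalization.Away.invSelf f : Localization.Away f) ^ k) = (z k).hom x
  have he : e (Submodule.Quotient.mk (Finsupp.single k 1)) =
      (IsLocalization.Away.invSelf f : Localization.Away f) ^ k := by
    refine Eq.trans ?_ ((πMap_single f k 1).trans (one_smul _ _))
    rfl
  rw [← he]
  simp [φ, G]

/-- `RHom` into complete objects is complete. -/
theorem bij_homCx' (f : A) (K J : DRing.Cx A) [∀ i, Injective (J.X i)]
    (hac : (DRing.homCx K (coind (loc f) J)).Acyclic) (n : ℤ) :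
    Bij f (Dual.HD A (DRing.toD (DRing.homCx K J)) n) := by
  have key : ∀ (i : ℤ) (z : ℕ → Cochain K J i), (∀ k, δ i (i + 1) (z k) = 0) → (∀ k, z k = f • z (k + 1)) →
      ∃ w : ℕ → Cochain K J (i - 1), (∀ k, δ (i - 1) i (w k) = z k) ∧ ∀ k, w k = f • w (k + 1) := by
    intro i z hd hz
    choose φ hφ using fun (p q : ℤ) (hpq : p + i = q) =>
      exists_hom_of_seq (f := f) (fun k => (z k).v p q hpq) (fun k => by
        conv_lhs => rw [hz k]
        rfl)
    let Φ : Cochain K (coind (loc f) J) i := Cochain.mk φ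
    have hΦ : ∀ k, Φ.comp (Cochain.ofHom (evkCx f k J)) (add_zero i) = z k := fun k =>
      Cochain.ext _ _ fun p q hpq => by
        rw [Cochain.comp_zero_cochain_v, Cochain.ofHom_v]
        exact hφ p q hpq k
    have hdΦ : δ i (i + 1) Φ = 0 := Cochain.ext _ _ fun p q hpq => ModuleCat.hom_ext (LinearMap.ext fun x =>
      evk_ext fun k => by
        have e := hd k
        rw [← hΦ k, δ_comp_ofHom] at e
        have e' := congrArg (fun t : Cochain K J (i + 1) => (t.v p q hpq).hom x) e
        rw [Cochain.comp_zero_cochain_v] at e'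
        exact e')
    obtain ⟨Ψ, hΨ⟩ := (exactAt_homCx_iff K _ i).1 (hac i) Φ hdΦ
    refine ⟨fun k => Ψ.comp (Cochain.ofHom (evkCx f k J)) (add_zero _), fun k => ?_, fun k => ?_⟩
    · rw [δ_comp_ofHom, hΨ, hΦ]
    · ext p q hpq x
      simp only [Cochain.comp_zero_cochain_v, Cochain.ofHom_v, Cochain.smul_v]
      show (show Localization.Away f →ₗ[A] J.X q from (Ψ.v p q hpq).hom x) _ =
        f • (show Localization.Away f →ₗ[A] J.X q from (Ψ.v p q hpq).hom x) _
      rw [← map_smul, ← inv_smul]
  let W := DRing.homCx K J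
  let e : Dual.HD A (DRing.toD W) n ≃ₗ[A] ((W.sc' (n - 1) n (n + 1)).moduleCatLeftHomologyData.H : ModuleCat.{u} A) :=
    ((DerivedCategory.homologyFunctorFactors (ModuleCat.{u} A) n).app W ≪≫
      ShortComplex.homologyMapIso (W.isoSc' (n - 1) n (n + 1) (by simp) (by simp)) ≪≫
      (W.sc' (n - 1) n (n + 1)).moduleCatHomologyIso).toLinearEquiv
  refine Bij.of_equiv e.symm ⟨(injective_iff_map_eq_zero _).2 fun c hc => ?_, fun c => ?_⟩
  · choose zz hzz using fun k => Submodule.Quotient.mk_surjective _ (c k)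
    have heq : ∀ k, c k = f • c (k + 1) := fun k => sub_eq_zero.1 (congrFun hc k)
    choose y hy using fun k => show ∃ y, _ = zz k - f • zz (k + 1) from (Submodule.Quotient.eq _).1
      ((hzz k).trans ((heq k).trans ((congrArg (f • ·) (hzz (k + 1)).symm).trans
        (map_smul (Submodule.mkQ _) f (zz (k + 1))).symm)))
    let z : ℕ → Cochain K J n := fun k => (zz k).1
    let y₀ : ℕ → Cochain K J (n - 1) := y
    have hy' : ∀ k, δ (n - 1) n (y₀ k) = z k - f • z (k + 1) := fun k =>
      congrArg Subtype.val (hy k)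
    obtain ⟨w, hw⟩ := exists_sol_cochain f K J (n - 1) y₀
    obtain ⟨w', hw', -⟩ := key n (fun k => z k - δ (n - 1) n (w k))
      (fun k => by rw [δ_sub, δ_δ, sub_zero]; exact (zz k).2) (fun k => by
        show z k - δ (n - 1) n (w k) = f • (z (k + 1) - δ (n - 1) n (w (k + 1)))
        rw [hw k, δ_add, δ_smul, hy', smul_sub]
        abel)
    funext k
    rw [← hzz k]
    refine (Submodule.Quotient.mk_eq_zero _).2 ⟨(w k + w' k : Cochain K J (n - 1)), Subtype.ext ?_⟩
    show δ (n - 1) n (w k + w' k) = z k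
    rw [δ_add, hw', add_sub_cancel]
  · choose zz hzz using fun k => Submodule.Quotient.mk_surjective _ (c k)
    let s : ℕ → Cochain K J n := fun k => (zz k).1
    obtain ⟨w, hw⟩ := exists_sol_cochain f K J n s
    obtain ⟨v, hv, hv'⟩ := key (n + 1) (fun k => δ n (n + 1) (w k)) (fun k => δ_δ _ _ _ _) (fun k => by
      show δ n (n + 1) (w k) = f • δ n (n + 1) (w (k + 1))
      rw [hw k, δ_add, δ_smul, show δ n (n + 1) (s k) = 0 from (zz k).2, zero_add])
    have en : n + 1 - 1 = n := by omega
    have hc : ∀ i : ℤ, i = n → ∀ v : ℕ → Cochain K J i, (∀ k, δ i (n + 1) (v k) = δ n (n + 1) (w k)) →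
        (∀ k, v k = f • v (k + 1)) → ∃ m : ℕ → Cochain K J n, (∀ k, δ n (n + 1) (m k) = 0) ∧
          ∀ k, m k = s k + f • m (k + 1) := by
      intro i hi u hu hu'
      subst hi
      exact ⟨fun k => w k - u k, fun k => by rw [δ_sub, hu, sub_self], fun k => by
        show w k - u k = s k + f • (w (k + 1) - u (k + 1))
        rw [smul_sub, ← hu', hw k]; abel⟩
    obtain ⟨m, hm0, hm⟩ := hc _ en v hv hv'
    let mm : ℕ → LinearMap.ker (W.sc' (n - 1) n (n + 1)).g.hom := fun k => ⟨m k, hm0 k⟩
    refine ⟨fun k => Submodule.Quotient.mk (mm k), T_eq_iff.2 fun k => ?_⟩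
    have h1 : mm k = zz k + f • mm (k + 1) := Subtype.ext (hm k)
    exact (congrArg (Submodule.mkQ _) h1).trans ((map_add _ _ _).trans
      (congrArg₂ (· + ·) (hzz k) (map_smul _ _ _)))

/-- `RHom` into complete objects is complete. -/
theorem bij_homCx (f : A) (K J : DRing.Cx A) [CochainComplex.IsKInjective J] [∀ i, Injective (J.X i)]
    (h : (coind (loc f) J).Acyclic) (n : ℤ) :
    Bij f (Dual.HD A (DRing.toD (DRing.homCx K J)) n) :=
  haveI := isKInjective_coind f J
  bij_homCx' f K J (acyclic_homCx_of_kinj K (coind (loc f) J) h) n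

/-- Complete objects do not see cones of maps from `f`-invertible complexes. -/
theorem bijective_precomp_cone {I : Ideal A} {f : A} (hf : f ∈ I) {W V : DRing.Cx A} (φ : W ⟶ V)
    (hW : ∀ i, Function.Bijective (fun x : W.X i => f • x)) {E : Dual.D A}
    (hE : DRing.IsDerivedComplete I E) :
    Function.Bijective (fun ψ : DRing.toD (mappingCone φ) ⟶ E =>
      DerivedCategory.Q.map (mappingCone.inr φ) ≫ ψ) := by
  have hW' : ∀ n : ℤ, ∀ x : (DRing.toD W)⟦n⟧ ⟶ E, x = 0 := fun n x => by
    refine (cancel_epi ((DerivedCategory.Q.commShiftIso n).app W).hom).1 ?_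
    rw [comp_zero]
    exact DComplete.hom_eq_zero hf (W⟦n⟧) (fun i => hW (i + n)) hE _
  have hT := DerivedCategory.mappingCone_triangle_distinguished φ
  let Tr : Triangle (Dual.D A) := DerivedCategory.Q.mapTriangle.obj (mappingCone.triangle φ)
  refine ⟨fun a b h => ?_, fun y => ?_⟩
  · obtain ⟨z, hz⟩ := Triangle.yoneda_exact₃ Tr hT (a - b) (show Tr.mor₂ ≫ (a - b) = 0 from
      (Preadditive.comp_sub _ _ _).trans (sub_eq_zero.2 h))
    exact sub_eq_zero.1 (hz.trans ((congrArg (Tr.mor₃ ≫ ·) (hW' 1 z)).trans comp_zero))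
  · obtain ⟨z, hz⟩ := Triangle.yoneda_exact₂ Tr hT y (by
      refine (cancel_epi ((shiftFunctorZero (Dual.D A) ℤ).hom.app (DRing.toD W))).1 ?_
      exact (hW' 0 _).trans comp_zero.symm)
    exact ⟨z, hz.symm⟩

lemma assoc4 {C : Type*} [Category C] {P Q R S T : C} (a : P ⟶ Q) (b : Q ⟶ R) (c : R ⟶ S) (d : S ⟶ T) :
    a ≫ b ≫ c ≫ d = (a ≫ b ≫ c) ≫ d := by simp

lemma injective_coind_X (f : A) (J : DRing.Cx A) [∀ i, Injective (J.X i)] (i : ℤ) :
    Injective ((coind (loc f) J).X i) := by
  haveI : Module.Flat A (loc f) := IsLocalization.flat (Localization.Away f) (Submonoid.powers f)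
  exact (tensHomAdj (loc f)).map_injective _ inferInstance

/-- A chain level model of derived completion which `RHom(K, -)` preserves. -/
theorem exists_completion_chain (s : Finset A) : ∀ (J : DRing.Cx A) [CochainComplex.IsKInjective J]
    [∀ i, Injective (J.X i)],
    ∃ (J' : DRing.Cx A) (η : J ⟶ J'), CochainComplex.IsKInjective J' ∧ (∀ i, Injective (J'.X i)) ∧
      (∀ g ∈ s, (coind (loc g) J').Acyclic) ∧
      (∀ E : Dual.D A, DRing.IsDerivedComplete (Ideal.span (s : Set A)) E →
        Function.Bijective (fun φ : DRing.toD J' ⟶ E => DerivedCategory.Q.map η ≫ φ)) ∧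
      (∀ (K : DRing.Cx A) (E : Dual.D A), DRing.IsDerivedComplete (Ideal.span (s : Set A)) E →
        Function.Bijective (fun φ : DRing.toD (DRing.homCx K J') ⟶ E =>
          DerivedCategory.Q.map ((DRing.homCxFunctor K).map η) ≫ φ)) := by
  classical
  induction s using Finset.induction_on with
  | empty =>
    intro J hJ hJ'
    refine ⟨J, 𝟙 J, hJ, hJ', fun g hg => absurd hg (Finset.notMem_empty g), fun E _ => ?_, fun K E _ => ?_⟩
    · simp only [CategoryTheory.Functor.map_id, Category.id_comp]
      exact Function.bijective_id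
    · simp only [CategoryTheory.Functor.map_id]
      exact ⟨fun a b h => (Category.id_comp a).symm.trans (h.trans (Category.id_comp b)),
        fun y => ⟨y, Category.id_comp y⟩⟩
  | @insert f s hf ih =>
    intro J _ _
    obtain ⟨J', η, hJ', hinj, hac, hbij, hbijK⟩ := ih J
    haveI := hJ'
    haveI := hinj
    haveI := isKInjective_coind f J'
    refine ⟨mappingCone (DComplete.ev f J'), η ≫ mappingCone.inr _, isKInjective_cone _, fun i => ?_, ?_, ?_, ?_⟩
    · haveI := injective_coind_X f J' (i + 1)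
      exact Injective.of_iso (HomologicalComplex.homotopyCofiber.XIsoBiprod (DComplete.ev f J') i (i + 1) rfl).symm
        inferInstance
    · intro g hg
      rcases Finset.mem_insert.1 hg with rfl | hg
      · exact acyclic_coind_cone g J'
      · exact acyclic_coind_cone' f g J' (hac g hg)
    · intro E hE
      have hE' : DRing.IsDerivedComplete (Ideal.span (s : Set A)) E := fun g hg =>
        hE g (Ideal.span_mono (Finset.coe_subset.2 (Finset.subset_insert f s)) hg)
      simp only [Functor.map_comp, Category.assoc]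
      exact (hbij E hE').comp (bijective_precomp_cone
        (Ideal.subset_span (Finset.mem_coe.2 (Finset.mem_insert_self f s))) (DComplete.ev f J')
        (fun i => smul_bijective_homF f (J'.X i)) hE)
    · intro K E hE
      have hE' : DRing.IsDerivedComplete (Ideal.span (s : Set A)) E := fun g hg =>
        hE g (Ideal.span_mono (Finset.coe_subset.2 (Finset.subset_insert f s)) hg)
      simp only [Functor.map_comp, ← inr_coneMap]
      have hc := (hbijK K E hE').comp ((bijective_precomp_cone
        (Ideal.subset_span (Finset.mem_coe.2 (Finset.mem_insert_self f s)))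
        ((DRing.homCxFunctor K).map (DComplete.ev f J'))
        (fun i => smul_bijective_cochain K f (fun q => smul_bijective_homF f (J'.X q)) i) hE).comp
        (Iso.homFromEquiv (Z := E) (asIso (DerivedCategory.Q.map (coneMap K (DComplete.ev f J'))))).symm.bijective)
      refine Eq.mp (congrArg Function.Bijective (funext fun φ => ?_)) hc
      exact assoc4 (DerivedCategory.Q.map ((DRing.homCxFunctor K).map η))
        (DerivedCategory.Q.map (mappingCone.inr ((DRing.homCxFunctor K).map (DComplete.ev f J'))))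
        (DerivedCategory.Q.map (coneMap K (DComplete.ev f J'))) φ

lemma conj_eq {C : Type*} [Category C] {X Y X' Y' P Q : C} {m : X ⟶ X'} {q : Y ⟶ Y'} (r : X ≅ Y) (r' : X' ≅ Y')
    (h : m ≫ r'.hom = r.hom ≫ q) (a : P ⟶ X) (c : X' ⟶ Q) :
    a ≫ r.hom ≫ q ≫ r'.inv ≫ c = a ≫ m ≫ c := by
  rw [← reassoc_of% h, Iso.hom_inv_id_assoc]

/-- `RHom(K, -)` commutes with derived completion. -/
theorem isCompletion_rhom (s : Finset A) [DRing.HasDerivedCompletion (Ideal.span (s : Set A))] (K : DRing.Cx A)
    [DRing.HasRHomCx K] (L : Dual.D A) :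
    IsCompletion (Ideal.span (s : Set A))
      ((DRing.RHomCx K).map (DRing.toDerivedCompletion (Ideal.span (s : Set A)) L)) := by
  obtain ⟨N, j, hN⟩ := KInjRes.exists_resolution_functor (A := ModuleCat.{u} A)
  let X := DerivedCategory.Q.objPreimage L
  haveI := (hN X).2.1
  let J := N.obj X
  haveI : CochainComplex.IsKInjective J := (hN X).2.2.1
  haveI : ∀ i, Injective (J.X i) := (hN X).2.2.2
  let eL : DRing.toD J ≅ L :=
    (asIso (DerivedCategory.Q.map (j.app X))).symm ≪≫ DerivedCategory.Q.objObjPreimageIso L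
  obtain ⟨J', η, hJ', hinj, hac, hbij, hbijK⟩ := exists_completion_chain s J
  haveI := hJ'
  haveI := hinj
  have hη : IsCompletion (Ideal.span (s : Set A)) (DerivedCategory.Q.map η) :=
    ⟨isDerivedComplete_of_acyclic_coind s J' hac, hbij⟩
  have hu := (isCompletion_unit (I := Ideal.span (s : Set A)) L).of_iso eL.symm (Iso.refl _)
  obtain ⟨e, he⟩ := hη.exists_iso hu
  simp only [Iso.symm_inv, Iso.refl_hom, Category.comp_id] at he
  have hK : IsCompletion (Ideal.span (s : Set A)) (DerivedCategory.Q.map ((DRing.homCxFunctor K).map η)) :=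
    ⟨(isDerivedComplete_span_iff _ _).2 fun g hg n => bij_homCx g K J' (hac g (Finset.mem_coe.1 hg)) n, hbijK K⟩
  have hfin := hK.of_iso ((rhomObj K J).symm ≪≫ (DRing.RHomCx K).mapIso eL)
    ((rhomObj K J').symm ≪≫ (DRing.RHomCx K).mapIso e)
  have : (((rhomObj K J).symm ≪≫ (DRing.RHomCx K).mapIso eL).inv ≫
      DerivedCategory.Q.map ((DRing.homCxFunctor K).map η) ≫
      ((rhomObj K J').symm ≪≫ (DRing.RHomCx K).mapIso e).hom) =
      (DRing.RHomCx K).map (DRing.toDerivedCompletion (Ideal.span (s : Set A)) L) := by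
    simp only [Iso.trans_inv, Iso.trans_hom, Iso.symm_hom, Iso.symm_inv, Functor.mapIso_hom, Functor.mapIso_inv,
      Category.assoc]
    refine (conj_eq (rhomObj K J) (rhomObj K J') (rhomObj_naturality K η) _ _).trans ?_
    rw [← Functor.map_comp, he, ← Functor.map_comp, Iso.inv_hom_id_assoc]
  exact (congrArg (IsCompletion (Ideal.span (s : Set A))) this).mp hfin

end Groth.Agent.H4DR.RHom
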