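import Groth.Agent.H4DR.RHom.RightRes
import Groth.Agent.H16Derived.KInjRes.Products
import Groth.Prelude.Def_DRing4
import Mathlib.Algebra.Category.ModuleCat.EnoughInjectives
import Mathlib.Algebra.Category.ModuleCat.AB
import Mathlib.Algebra.Homology.DerivedCategory.KInjective
import Mathlib.Algebra.Homology.HomotopyCategory.HomComplexCohomology

/-!
# The Hom complex and its right derived functor
-/

set_option autoImplicit false
set_option linter.style.haveILetI false

universe u

open CategoryTheory CategoryTheory.Limits CochainComplex CochainComplex.HomComplex Pretriangulated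
open Groth.Agent.H16Derived
open scoped ZeroObject

attribute [local instance] HasDerivedCategory.standard

namespace Groth.Agent.H4DR.RHom

variable {A : Type u} [CommRing A]

lemma homCxMap_apply (K : DRing.Cx A) {L L' : DRing.Cx A} (f : L ⟶ L') (i : ℤ) (z : Cochain K L i) :
    ((DRing.homCxFunctor K).map f).f i z = z.comp (Cochain.ofHom f) (add_zero i) := rfl

/-- `z ↦ z ∘ H` for a cochain `H` of degree `-1`. -/
noncomputable def compLin (K : DRing.Cx A) {L L' : DRing.Cx A} (H : Cochain L L' (-1)) (i j : ℤ) (hij : j + 1 = i) :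
    Cochain K L i →ₗ[A] Cochain K L' j where
  toFun z := z.comp H (show i + (-1) = j by omega)
  map_add' z z' := Cochain.add_comp z z' H _
  map_smul' a z := Cochain.smul_comp a z H _

/-- The homotopy components. -/
noncomputable def compHom (K : DRing.Cx A) {L L' : DRing.Cx A} (H : Cochain L L' (-1)) (i j : ℤ) :
    ((DRing.homCxFunctor K).obj L).X i ⟶ ((DRing.homCxFunctor K).obj L').X j :=
  ModuleCat.ofHom (X := Cochain K L i) (Y := Cochain K L' j)
    (if hij : j + 1 = i then compLin K H i j hij else 0)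

lemma compHom_apply (K : DRing.Cx A) {L L' : DRing.Cx A} (H : Cochain L L' (-1)) (i j : ℤ) (hij : j + 1 = i)
    (z : Cochain K L i) :
    (compHom K H i j).hom z = z.comp H (show i + (-1) = j by omega) := by
  show (dite (j + 1 = i) _ _ : Cochain K L i →ₗ[A] Cochain K L' j) z = _
  rw [dif_pos hij]
  rfl

/-- Postcomposition with a homotopy is a homotopy. -/
lemma homotopy_homCxMap (K : DRing.Cx A) {L L' : DRing.Cx A} {f g : L ⟶ L'} (h : Homotopy f g) :
    Nonempty (Homotopy ((DRing.homCxFunctor K).map f) ((DRing.homCxFunctor K).map g)) := by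
  obtain ⟨H, hH⟩ := Cochain.equivHomotopy f g h
  refine ⟨{
    hom := compHom K H
    zero := fun i j hij => by
      show ModuleCat.ofHom (X := Cochain K L i) (Y := Cochain K L' j) (dite (j + 1 = i) _ _) = 0
      rw [dif_neg (show ¬ j + 1 = i from hij)]
      rfl
    comm := fun i => ?_ }⟩
  rw [dNext_eq _ (show (ComplexShape.up ℤ).Rel i (i + 1) by simp),
    prevD_eq _ (show (ComplexShape.up ℤ).Rel (i - 1) i by simp)]
  refine ModuleCat.hom_ext (LinearMap.ext fun (z : Cochain K L i) => ?_)
  show z.comp (Cochain.ofHom f) (add_zero i) = (show Cochain K L' i from (compHom K H (i + 1) i).hom (δ i (i + 1) z)) +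
    δ (i - 1) i ((compHom K H i (i - 1)).hom z : Cochain K L' (i - 1)) + z.comp (Cochain.ofHom g) (add_zero i)
  rw [compHom_apply K H (i + 1) i rfl, compHom_apply K H i (i - 1) (by omega), hH, δ_comp z H (show i + (-1) = i - 1 by omega) (i + 1) 0 i (by omega) rfl (by omega)]
  simp only [Int.reduceNeg, Int.negOnePow_neg, Int.negOnePow_one, Units.neg_smul, one_smul,
    Cochain.comp_add]
  abel

lemma Q_homCxMap_eq (K : DRing.Cx A) {L L' : DRing.Cx A} {f g : L ⟶ L'} (h : Homotopy f g) :
    (DRing.homCxQ K).map f = (DRing.homCxQ K).map g :=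
  DerivedCategory.Q_map_eq_of_homotopy (h := (homotopy_homCxMap K h).some)

/-- Quasi-isomorphisms between K-injective complexes are inverted by `Hom•(K, -)`. -/
lemma isIso_homCxQ_map (K : DRing.Cx A) {J J' : DRing.Cx A} [CochainComplex.IsKInjective J]
    [CochainComplex.IsKInjective J'] (f : J ⟶ J') [QuasiIso f] : IsIso ((DRing.homCxQ K).map f) := by
  haveI : IsIso (DerivedCategory.Qh.map ((HomotopyCategory.quotient (ModuleCat.{u} A) (ComplexShape.up ℤ)).map f)) := by
    have := NatIso.isIso_map_iff (DerivedCategory.quotientCompQhIso (ModuleCat.{u} A)) f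
    exact this.2 inferInstance
  obtain ⟨g', hg⟩ := (CochainComplex.IsKInjective.Qh_map_bijective
    ((HomotopyCategory.quotient _ _).obj J') J).2
      (inv (DerivedCategory.Qh.map ((HomotopyCategory.quotient (ModuleCat.{u} A) (ComplexShape.up ℤ)).map f)))
  obtain ⟨g, rfl⟩ := (HomotopyCategory.quotient (ModuleCat.{u} A) (ComplexShape.up ℤ)).map_surjective g'
  have h1 : (HomotopyCategory.quotient _ _).map (f ≫ g) = (HomotopyCategory.quotient _ _).map (𝟙 J) :=
    (CochainComplex.IsKInjective.Qh_map_bijective _ J).1 (by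
      rw [Functor.map_comp, Functor.map_comp, hg, IsIso.hom_inv_id, CategoryTheory.Functor.map_id,
        CategoryTheory.Functor.map_id])
  have h2 : (HomotopyCategory.quotient _ _).map (g ≫ f) = (HomotopyCategory.quotient _ _).map (𝟙 J') :=
    (CochainComplex.IsKInjective.Qh_map_bijective _ J').1 (by
      rw [Functor.map_comp, Functor.map_comp, hg, IsIso.inv_hom_id, CategoryTheory.Functor.map_id,
        CategoryTheory.Functor.map_id])
  refine ⟨(DRing.homCxQ K).map g, ?_, ?_⟩
  · rw [← Functor.map_comp, Q_homCxMap_eq K (HomotopyCategory.homotopyOfEq _ _ h1),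
      CategoryTheory.Functor.map_id]
  · rw [← Functor.map_comp, Q_homCxMap_eq K (HomotopyCategory.homotopyOfEq _ _ h2),
      CategoryTheory.Functor.map_id]

/-- `RHom` exists and is computed on K-injective complexes. -/
theorem hasRHomCx (K : DRing.Cx A) : DRing.HasRHomCx K := by
  obtain ⟨N, j, hN⟩ := KInjRes.exists_resolution_functor (A := ModuleCat.{u} A)
  refine hasRightDerived DerivedCategory.Q _ (R := N) j (fun X Y φ hφ => ?_) (fun X => (hN X).2.1) (fun X => ?_)
  · haveI := (hN X).2.2.1
    haveI := (hN Y).2.2.1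
    haveI : QuasiIso φ := hφ
    haveI := (hN X).2.1
    haveI := (hN Y).2.1
    haveI : QuasiIso (j.app X ≫ N.map φ) := by
      rw [← j.naturality φ, Functor.id_map]
      exact quasiIso_comp φ (j.app Y)
    haveI := quasiIso_of_comp_left (j.app X) (N.map φ)
    exact isIso_homCxQ_map K (N.map φ)
  · haveI := (hN X).2.2.1
    haveI := (hN (N.obj X)).2.2.1
    haveI := (hN (N.obj X)).2.1
    exact @isIso_homCxQ_map _ _ K (N.obj X) (N.obj (N.obj X)) (hN X).2.2.1 (hN (N.obj X)).2.2.1 _ (hN (N.obj X)).2.1

variable (K : DRing.Cx A) [DRing.HasRHomCx K]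

/-- The comparison map. -/
noncomputable abbrev unit : DRing.homCxQ K ⟶ DerivedCategory.Q ⋙ DRing.RHomCx K :=
  (DRing.homCxQ K).totalRightDerivedUnit DerivedCategory.Q
    (HomologicalComplex.quasiIso (ModuleCat.{u} A) (ComplexShape.up ℤ))

theorem isIso_unit_kinj (J : DRing.Cx A) [CochainComplex.IsKInjective J] : IsIso ((unit K).app J) := by
  obtain ⟨N, j, hN⟩ := KInjRes.exists_resolution_functor (A := ModuleCat.{u} A)
  haveI := (hN J).2.2.1
  haveI := (hN J).2.1
  haveI := @isIso_homCxQ_map _ _ K J (N.obj J) inferInstance (hN J).2.2.1 (j.app J) (hN J).2.1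
  refine isIso_unit_app DerivedCategory.Q (HomologicalComplex.quasiIso (ModuleCat.{u} A) (ComplexShape.up ℤ))
    j (fun X => (hN X).2.1) (fun X => ?_) (DRing.RHomCx K) (unit K) (fun X Y φ hφ => ?_) J
  · exact @isIso_homCxQ_map _ _ K (N.obj X) (N.obj (N.obj X)) (hN X).2.2.1 (hN (N.obj X)).2.2.1 _ (hN (N.obj X)).2.1
  · haveI := (hN X).2.2.1
    haveI := (hN Y).2.2.1
    haveI : QuasiIso φ := hφ
    haveI := (hN X).2.1
    haveI := (hN Y).2.1
    haveI : QuasiIso (j.app X ≫ N.map φ) := by
      rw [← j.naturality φ, Functor.id_map]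
      exact quasiIso_comp φ (j.app Y)
    haveI := quasiIso_of_comp_left (j.app X) (N.map φ)
    exact isIso_homCxQ_map K (N.map φ)

/-- `RHom(K, J) = Hom•(K, J)` for K-injective `J`. -/
noncomputable def rhomObj (J : DRing.Cx A) [CochainComplex.IsKInjective J] :
    (DRing.RHomCx K).obj (DRing.toD J) ≅ DRing.toD (DRing.homCx K J) :=
  haveI := isIso_unit_kinj K J
  (asIso ((unit K).app J)).symm

lemma rhomObj_naturality {J J' : DRing.Cx A} [CochainComplex.IsKInjective J] [CochainComplex.IsKInjective J']
    (g : J ⟶ J') :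
    (DRing.RHomCx K).map (DerivedCategory.Q.map g) ≫ (rhomObj K J').hom =
      (rhomObj K J).hom ≫ DerivedCategory.Q.map ((DRing.homCxFunctor K).map g) := by
  haveI := isIso_unit_kinj K J
  haveI := isIso_unit_kinj K J'
  show _ ≫ inv ((unit K).app J') = inv ((unit K).app J) ≫ _
  refine (IsIso.comp_inv_eq _).2 (Eq.trans ?_ (Category.assoc _ _ _).symm)
  exact ((IsIso.inv_comp_eq _).2 ((unit K).naturality g)).symm

end Groth.Agent.H4DR.RHom
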