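import Groth.Agent.H4DR.RHom.HomCx
import Groth.Agent.H4DR.RHom.Precomp
import Groth.Agent.H4DR.TorAmp.Basic
import Groth.Agent.H16Derived.KFlat.Cone
import Mathlib.Algebra.Homology.HomotopyCategory.KProjective

/-!
# Hom complexes out of perfect complexes preserve K-flatness
-/

set_option autoImplicit false
set_option linter.style.haveILetI false

universe u

open CategoryTheory CategoryTheory.Limits CochainComplex.HomComplex
open Groth.Agent.H16Derived

attribute [local instance] HasDerivedCategory.standard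

namespace Groth.Agent.H4DR.RHom

open Groth.Agent.H4DR.KFlatMod (bi)

variable {A : Type u} [CommRing A]

/-- Precomposition with a degree zero family. -/
noncomputable def preLin {K K' : DRing.Cx A} (g : ∀ p, K.X p ⟶ K'.X p) (L : DRing.Cx A) (i : ℤ) :
    Cochain K' L i →ₗ[A] Cochain K L i where
  toFun z := Cochain.mk fun p q h => g p ≫ z.v p q h
  map_add' z z' := by ext p q h : 3; simp
  map_smul' a z := by ext p q h : 3; simp

lemma preLin_v {K K' : DRing.Cx A} (g : ∀ p, K.X p ⟶ K'.X p) (L : DRing.Cx A) (i : ℤ) (z : Cochain K' L i)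
    (p q : ℤ) (h : p + i = q) : (preLin g L i z).v p q h = g p ≫ z.v p q h := rfl

lemma homCxPre_f {K K' : DRing.Cx A} (g : K ⟶ K') (L : DRing.Cx A) (i : ℤ) (z : Cochain K' L i) :
    ((homCxPre g L).f i).hom z = preLin g.f L i z := by
  show (Cochain.ofHom g).comp z (zero_add i) = _
  ext p q h : 3
  simp [preLin_v]

lemma homCxPre_id (K L : DRing.Cx A) : homCxPre (𝟙 K) L = 𝟙 _ :=
  HomologicalComplex.hom_ext _ _ fun i => ModuleCat.hom_ext (LinearMap.ext fun z => Cochain.id_comp z)

lemma homCxPre_comp {K K' K'' : DRing.Cx A} (f : K ⟶ K') (g : K' ⟶ K'') (L : DRing.Cx A) :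
    homCxPre (f ≫ g) L = homCxPre g L ≫ homCxPre f L :=
  HomologicalComplex.hom_ext _ _ fun i => ModuleCat.hom_ext (LinearMap.ext fun (z : Cochain K'' L i) => by
    show (Cochain.ofHom (f ≫ g)).comp z (zero_add i) = (Cochain.ofHom f).comp ((Cochain.ofHom g).comp z (zero_add i)) (zero_add i)
    ext p q h : 3
    simp)

lemma homCxPre_zero (K K' L : DRing.Cx A) : homCxPre (0 : K ⟶ K') L = 0 :=
  HomologicalComplex.hom_ext _ _ fun i => ModuleCat.hom_ext (LinearMap.ext fun (z : Cochain K' L i) => by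
    show (Cochain.ofHom (0 : K ⟶ K')).comp z (zero_add i) = (0 : Cochain K L i)
    rw [Cochain.ofHom_zero, Cochain.zero_comp])

lemma homCxPre_sum {ι : Type*} (s : Finset ι) {K K' : DRing.Cx A} (g : ι → (K ⟶ K')) (L : DRing.Cx A) :
    homCxPre (∑ k ∈ s, g k) L = ∑ k ∈ s, homCxPre (g k) L := by
  classical
  induction s using Finset.induction_on with
  | empty => simp [homCxPre_zero]
  | insert a s ha ih =>
    rw [Finset.sum_insert ha, Finset.sum_insert ha, ← ih]
    exact HomologicalComplex.hom_ext _ _ fun i => ModuleCat.hom_ext (LinearMap.ext fun (z : Cochain K' L i) => by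
      show (Cochain.ofHom (g a + ∑ k ∈ s, g k)).comp z (zero_add i) =
        (Cochain.ofHom (g a)).comp z (zero_add i) + (Cochain.ofHom (∑ k ∈ s, g k)).comp z (zero_add i)
      rw [Cochain.ofHom_add, Cochain.add_comp])

/-- `z ↦ ± H ∘ z` for a cochain `H` of degree `-1`. -/
noncomputable def precompH {K K' : DRing.Cx A} (H : Cochain K K' (-1)) (L : DRing.Cx A) (i j : ℤ) :
    (DRing.homCx K' L).X i ⟶ (DRing.homCx K L).X j :=
  ModuleCat.ofHom (X := Cochain K' L i) (Y := Cochain K L j)
    (if hij : j + 1 = i then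
      { toFun := fun z => i.negOnePow • H.comp z (show (-1) + i = j by omega)
        map_add' := fun z z' => by rw [Cochain.comp_add, smul_add]
        map_smul' := fun a z => by
          rw [Cochain.comp_smul, RingHom.id_apply, smul_comm] } else 0)

lemma precompH_apply {K K' : DRing.Cx A} (H : Cochain K K' (-1)) (L : DRing.Cx A) (i j : ℤ) (hij : j + 1 = i)
    (z : Cochain K' L i) :
    (precompH H L i j).hom z = i.negOnePow • H.comp z (show (-1) + i = j by omega) := by
  show (dite (j + 1 = i) _ _ : Cochain K' L i →ₗ[A] Cochain K L j) z = _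
  rw [dif_pos hij]
  rfl

/-- Precomposition carries homotopic maps to homotopic maps. -/
lemma homotopy_homCxPre {K K' : DRing.Cx A} {f g : K ⟶ K'} (h : Homotopy f g) (L : DRing.Cx A) :
    Nonempty (Homotopy (homCxPre f L) (homCxPre g L)) := by
  obtain ⟨H, hH⟩ := Cochain.equivHomotopy f g h
  refine ⟨{
    hom := precompH H L
    zero := fun i j hij => by
      show ModuleCat.ofHom (X := Cochain K' L i) (Y := Cochain K L j) (dite (j + 1 = i) _ _) = 0
      rw [dif_neg (show ¬ j + 1 = i from hij)]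
      rfl
    comm := fun i => ?_ }⟩
  rw [dNext_eq _ (show (ComplexShape.up ℤ).Rel i (i + 1) by simp),
    prevD_eq _ (show (ComplexShape.up ℤ).Rel (i - 1) i by simp)]
  refine ModuleCat.hom_ext (LinearMap.ext fun (z : Cochain K' L i) => ?_)
  show (Cochain.ofHom f).comp z (zero_add i) = (show Cochain K L i from (precompH H L (i + 1) i).hom (δ i (i + 1) z)) +
    δ (i - 1) i ((precompH H L i (i - 1)).hom z : Cochain K L (i - 1)) + (Cochain.ofHom g).comp z (zero_add i)
  rw [precompH_apply H L (i + 1) i rfl, precompH_apply H L i (i - 1) (by omega), δ_units_smul,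
    δ_comp H z (show (-1) + i = i - 1 by omega) 0 (i + 1) i (by omega) (by omega) rfl, hH,
    Int.negOnePow_succ]
  simp only [Units.neg_smul, smul_add, smul_smul, Int.units_mul_self, one_smul, Cochain.add_comp]
  abel

/-- Hom complexes of isomorphic complexes. -/
noncomputable def homIso {X Y : DRing.Cx A} (e : X ≅ Y) (K : DRing.Cx A) : DRing.homCx Y K ≅ DRing.homCx X K :=
  ⟨homCxPre e.hom K, homCxPre e.inv K, by rw [← homCxPre_comp, e.inv_hom_id, homCxPre_id],
    by rw [← homCxPre_comp, e.hom_inv_id, homCxPre_id]⟩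

section KFlat

variable {K : DRing.Cx A} (hK : KFlat.IsKFlat (bi A) K)

/-- A complex whose identity is a finite sum of maps through K-flat complexes is K-flat. -/
lemma isKFlat_of_sum {ι : Type*} (s : Finset ι) {E : DRing.Cx A} {E' : ι → DRing.Cx A}
    (h : ∀ k ∈ s, KFlat.IsKFlat (bi A) (E' k)) (a : ∀ k, E ⟶ E' k) (b : ∀ k, E' k ⟶ E)
    (hid : ∑ k ∈ s, a k ≫ b k = 𝟙 E) : KFlat.IsKFlat (bi A) E := fun L hL i => by
  let F := KFlat.tot (bi A) L ⋙ HomologicalComplex.homologyFunctor (ModuleCat.{u} A) (ComplexShape.up ℤ) i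
  rw [HomologicalComplex.exactAt_iff_isZero_homology]
  refine (IsZero.iff_id_eq_zero _).2 ?_
  show 𝟙 (F.obj E) = 0
  rw [← CategoryTheory.Functor.map_id, ← hid, Functor.map_sum]
  refine Finset.sum_eq_zero fun k hk => ?_
  rw [Functor.map_comp,
    ((HomologicalComplex.exactAt_iff_isZero_homology _ _).1 (h k hk L hL i)).eq_of_tgt (F.map (a k)) 0]
  exact zero_comp

/-- `Hom•(-, K)` of a degreewise split sequence. -/
lemma isFSES_hom (S : ShortComplex (DRing.Cx A))
    (sp : ∀ q, (S.map (HomologicalComplex.eval (ModuleCat.{u} A) (ComplexShape.up ℤ) q)).Splitting) :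
    KFlat.IsFSES (F := bi A) (ShortComplex.mk (homCxPre S.g K) (homCxPre S.f K)
      (by rw [← homCxPre_comp, S.zero, homCxPre_zero])) := by
  let σ : ∀ p, S.X₃.X p ⟶ S.X₂.X p := fun p => (sp p).s
  let ρ : ∀ p, S.X₂.X p ⟶ S.X₁.X p := fun p => (sp p).r
  have hσ : ∀ p, σ p ≫ S.g.f p = 𝟙 _ := fun p => (sp p).s_g
  have hρ : ∀ p, S.f.f p ≫ ρ p = 𝟙 _ := fun p => (sp p).f_r
  have hid : ∀ p, ρ p ≫ S.f.f p + S.g.f p ≫ σ p = 𝟙 _ := fun p => (sp p).id
  have h₁ : ∀ (i : ℤ) (z : Cochain S.X₃ K i), preLin σ K i (preLin S.g.f K i z) = z := fun i z =>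
    Cochain.ext _ _ fun p q h => by rw [preLin_v, preLin_v, ← Category.assoc, hσ, Category.id_comp]
  have h₂ : ∀ (i : ℤ) (z : Cochain S.X₁ K i), preLin S.f.f K i (preLin ρ K i z) = z := fun i z =>
    Cochain.ext _ _ fun p q h => by rw [preLin_v, preLin_v, ← Category.assoc, hρ, Category.id_comp]
  have h₃ : ∀ (i : ℤ) (z : Cochain S.X₂ K i),
      preLin S.g.f K i (preLin σ K i z) + preLin ρ K i (preLin S.f.f K i z) = z := fun i z =>
    Cochain.ext _ _ fun p q h => by
      rw [Cochain.add_v, preLin_v, preLin_v, preLin_v, preLin_v, ← Category.assoc, ← Category.assoc,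
        ← Preadditive.add_comp, add_comm, hid, Category.id_comp]
  refine KFlat.isFSES_of_splitting _ fun i => ⟨
    { r := ModuleCat.ofHom (X := Cochain S.X₂ K i) (Y := Cochain S.X₃ K i) (preLin σ K i)
      s := ModuleCat.ofHom (X := Cochain S.X₁ K i) (Y := Cochain S.X₂ K i) (preLin ρ K i)
      f_r := ?_, s_g := ?_, id := ?_ }⟩
  · exact ModuleCat.hom_ext (LinearMap.ext fun (z : Cochain S.X₃ K i) =>
      (congrArg (preLin σ K i) (homCxPre_f S.g K i z)).trans (h₁ i z))
  · exact ModuleCat.hom_ext (LinearMap.ext fun (z : Cochain S.X₁ K i) =>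
      (homCxPre_f S.f K i (preLin ρ K i z)).trans (h₂ i z))
  · exact ModuleCat.hom_ext (LinearMap.ext fun (z : Cochain S.X₂ K i) =>
      (congrArg₂ (fun (u v : Cochain S.X₂ K i) => u + v) (homCxPre_f S.g K i (preLin σ K i z))
        (congrArg (preLin ρ K i) (homCxPre_f S.f K i z))).trans (h₃ i z))

lemma isKFlat_homCx_of_contractible {C : DRing.Cx A} (h : Homotopy (𝟙 C) 0) :
    KFlat.IsKFlat (bi A) (DRing.homCx C K) := fun L _ => by
  obtain ⟨h'⟩ := homotopy_homCxPre h K
  exact KFlat.acyclic_tot_of_contractible L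
    ((Homotopy.ofEq (homCxPre_id C K).symm).trans (h'.trans (Homotopy.ofEq (homCxPre_zero C C K))))

include hK in
/-- A complex concentrated in one degree. -/
theorem isKFlat_homCx_free (n : ℤ) : KFlat.IsKFlat (bi A)
    (DRing.homCx ((CochainComplex.singleFunctor (ModuleCat.{u} A) n).obj (ModuleCat.of A A)) K) := by
  have step : ∀ n : ℤ, KFlat.IsKFlat (bi A) (DRing.homCx ((CochainComplex.singleFunctor (ModuleCat.{u} A) n).obj (ModuleCat.of A A)) K) ↔
      KFlat.IsKFlat (bi A) (DRing.homCx ((CochainComplex.singleFunctor (ModuleCat.{u} A) (n - 1)).obj (ModuleCat.of A A)) K) := by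
    intro n
    let X := (CochainComplex.singleFunctor (ModuleCat.{u} A) n).obj (ModuleCat.of A A)
    let e : X⟦(1 : ℤ)⟧ ≅ (CochainComplex.singleFunctor (ModuleCat.{u} A) (n - 1)).obj (ModuleCat.of A A) :=
      ((CochainComplex.singleFunctors (ModuleCat.{u} A)).shiftIso 1 (n - 1) n (by omega)).app _
    have hS := isFSES_hom (K := K) (CochainComplex.mappingCone.triangleRotateShortComplex (𝟙 X))
      fun q => CochainComplex.mappingCone.triangleRotateShortComplexSplitting (𝟙 X) q
    have hcone := isKFlat_homCx_of_contractible (K := K) (CochainComplex.mappingCone.homotopyToZeroOfId X)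
    let eh : DRing.homCx ((CochainComplex.singleFunctor (ModuleCat.{u} A) (n - 1)).obj (ModuleCat.of A A)) K ≅
        DRing.homCx (X⟦(1 : ℤ)⟧) K :=
      ⟨homCxPre e.hom K, homCxPre e.inv K, by rw [← homCxPre_comp, e.inv_hom_id, homCxPre_id],
        by rw [← homCxPre_comp, e.hom_inv_id, homCxPre_id]⟩
    refine ⟨fun h => (hS.isKFlat₁ hcone h).of_iso eh.symm, fun h => hS.isKFlat₃ (h.of_iso eh) hcone⟩
  induction n using Int.induction_on with
  | zero => exact hK.of_iso (asIso (evalOne K)).symm
  | succ n ih => exact (step ((n : ℤ) + 1)).2 (by rwa [add_sub_cancel_right])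
  | pred n ih => exact (step (-(n : ℤ))).1 ih

include hK in
/-- A finite projective module in one degree. -/
theorem isKFlat_homCx_single (n : ℤ) (Y : ModuleCat.{u} A) [Module.Finite A Y] [Module.Projective A Y] :
    KFlat.IsKFlat (bi A) (DRing.homCx ((CochainComplex.singleFunctor (ModuleCat.{u} A) n).obj Y) K) := by
  obtain ⟨m, g, j, -, -, hgj⟩ := Module.Finite.exists_comp_eq_id_of_projective A Y
  let S := CochainComplex.singleFunctor (ModuleCat.{u} A) n
  let φ : Fin m → (Y ⟶ ModuleCat.of A A) := fun k => ModuleCat.ofHom (LinearMap.proj k ∘ₗ j)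
  let ψ : Fin m → (ModuleCat.of A A ⟶ Y) := fun k => ModuleCat.ofHom (g ∘ₗ LinearMap.single A (fun _ => A) k)
  have hid : ∑ k, φ k ≫ ψ k = 𝟙 Y := ModuleCat.hom_ext (LinearMap.ext fun y => by
    rw [ModuleCat.hom_sum, LinearMap.sum_apply]
    show ∑ k, g (Pi.single k (j y k)) = y
    rw [← map_sum, Finset.univ_sum_single]
    exact LinearMap.congr_fun hgj y)
  refine isKFlat_of_sum (E' := fun _ : Fin m => DRing.homCx (S.obj (ModuleCat.of A A)) K) Finset.univ
    (fun _ _ => isKFlat_homCx_free hK n) (fun k => homCxPre (S.map (ψ k)) K) (fun k => homCxPre (S.map (φ k)) K) ?_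
  simp only [← homCxPre_comp, ← Functor.map_comp]
  rw [← homCxPre_sum, ← Functor.map_sum, hid, CategoryTheory.Functor.map_id, homCxPre_id]

include hK in
/-- A bounded complex of finite projective modules. -/
theorem isKFlat_homCx_bounded : ∀ (N : ℕ) (c : ℤ) (E : DRing.Cx A),
    (∀ i, (i < c ∨ c + N ≤ i) → IsZero (E.X i)) → DRing.TermwiseFiniteProjective E →
    KFlat.IsKFlat (bi A) (DRing.homCx E K)
  | 0, c, E, hb, _ => isKFlat_homCx_of_contractible (Homotopy.ofEq
      (HomologicalComplex.hom_ext _ _ fun i => (hb i (by omega)).eq_of_src _ _))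
  | N + 1, c, E, hb, hp => by
    let p : ℤ := c + N
    let S := ShortComplex.mk (KFlat.Brutal.ι E p) (cokernel.π _) (cokernel.condition _)
    have hG : ∀ i, i ≠ p → IsZero ((KFlat.Brutal.geq E p).X i) := fun i hi => by
      by_cases hbi : p ≤ i
      · have := KFlat.Brutal.isIso_ι_f E p hbi
        exact (hb i (by omega)).of_iso (asIso ((KFlat.Brutal.ι E p).f i))
      · exact KFlat.Brutal.isZero_geq E _ (by omega)
    haveI : (KFlat.Brutal.geq E p).IsStrictlyGE p := (CochainComplex.isStrictlyGE_iff _ p).2 fun q hq => hG q (by omega)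
    haveI : (KFlat.Brutal.geq E p).IsStrictlyLE p := (CochainComplex.isStrictlyLE_iff _ p).2 fun q hq => hG q (by omega)
    obtain ⟨Y, ⟨eG⟩⟩ := CochainComplex.exists_iso_single (KFlat.Brutal.geq E p) p
    have := KFlat.Brutal.isIso_ι_f E p (le_refl p)
    haveI := (hp p).1
    haveI := (hp p).2
    let eY := ((asIso ((KFlat.Brutal.ι E p).f p)).symm ≪≫ (HomologicalComplex.eval _ _ p).mapIso eG ≪≫
      HomologicalComplex.singleObjXSelf (ComplexShape.up ℤ) p Y).toLinearEquiv
    haveI : Module.Finite A Y := Module.Finite.equiv eY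
    haveI : Module.Projective A Y := Module.Projective.of_equiv eY
    let eh : DRing.homCx ((CochainComplex.singleFunctor (ModuleCat.{u} A) p).obj Y) K ≅ DRing.homCx (KFlat.Brutal.geq E p) K :=
      homIso eG K
    refine (isFSES_hom (K := K) S fun q => (KFlat.Brutal.splitting E p q).some).isKFlat₂
      (isKFlat_homCx_bounded N c _ (fun i hi => ?_) fun i => ?_) ((isKFlat_homCx_single hK p Y).of_iso eh)
    · by_cases hpi : p ≤ i
      · exact KFlat.Brutal.isZero_cokernel E _ hpi
      · have := KFlat.Brutal.isIso_cokernel_π E p (show i < p by omega)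
        exact (hb i (by omega)).of_iso (asIso ((cokernel.π (KFlat.Brutal.ι E p)).f i)).symm
    · by_cases hi : i < p
      · have := KFlat.Brutal.isIso_cokernel_π E p hi
        haveI := (hp i).1
        haveI := (hp i).2
        let e := (asIso ((cokernel.π (KFlat.Brutal.ι E p)).f i)).toLinearEquiv
        exact ⟨Module.Finite.equiv e, Module.Projective.of_equiv e⟩
      · haveI := ModuleCat.subsingleton_of_isZero (KFlat.Brutal.isZero_cokernel E _ (not_lt.1 hi))
        exact ⟨Module.Finite.of_finite, Module.Projective.of_lifting_property'' fun g _ =>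
          ⟨0, LinearMap.ext fun x => Subsingleton.elim _ _⟩⟩

include hK in
theorem isKFlat_homCx_of_perfect (P : DRing.Cx A) (c : ℤ) (hPb : DRing.VanishesAbove P c)
    (hPp : ∀ i : ℤ, Module.Projective A (P.X i)) (hperf : DRing.IsPerfect A (DRing.toD P)) :
    KFlat.IsKFlat (bi A) (DRing.homCx P K) := by
  obtain ⟨E, a, b, hE, hF, ⟨e⟩⟩ := hperf
  have hEr : TorAmp.IsProjRep E b := ⟨fun i hi => hE i (Or.inr hi), fun i => (hF i).2⟩
  have hPr : TorAmp.IsProjRep P c := ⟨hPb, hPp⟩
  obtain ⟨f, hf, -⟩ := TorAmp.exists_qis hEr e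
  haveI := (TorAmp.cone_isProjRep hEr hPr f).isKProjective
  have hac : (CochainComplex.mappingCone f).Acyclic :=
    (AcyclicLES.quasiIso_iff_acyclic_mappingCone f).1 hf
  have hcone := isKFlat_homCx_of_contractible (K := K)
    (CochainComplex.IsKProjective.homotopyZero (𝟙 (CochainComplex.mappingCone f)) hac)
  have hE1 : KFlat.IsKFlat (bi A) (DRing.homCx (E⟦(1 : ℤ)⟧) K) :=
    isKFlat_homCx_bounded hK (b + 1 - a).toNat (a - 1) _ (fun i hi => hE (i + 1) (by omega)) fun i => hF (i + 1)
  exact (isFSES_hom (K := K) (CochainComplex.mappingCone.triangleRotateShortComplex f)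
    fun q => CochainComplex.mappingCone.triangleRotateShortComplexSplitting f q).isKFlat₃ hE1 hcone

end KFlat

end Groth.Agent.H4DR.RHom
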