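import Groth.Agent.H4DR.RHom.TensFree
import Groth.Agent.H4DR.TorAmp.LTensorCx
import Groth.Agent.H4DR.DComplete.Universal
import Groth.Agent.H4DR.PCoh.Modules
import Groth.Agent.H4DR.PCoh.Stage
import Groth.Agent.H4DR.TorAmp.Derived

/-!
# Derived completion commutes with tensoring by pseudo-coherent objects
-/

set_option autoImplicit false
set_option linter.style.haveILetI false

universe u

open CategoryTheory CategoryTheory.Limits CochainComplex MonoidalCategory
open Groth.Agent.H4DR.DComplete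
open Groth.Agent.H4DR.TorAmp
open Groth.Agent.H16Derived
open scoped TensorProduct

attribute [local instance] HasDerivedCategory.standard

namespace Groth.Agent.H4DR.RHom

variable {A : Type u} [CommRing A]

lemma ltensorCxObj_naturality (F : DRing.Cx A) [DRing.HasLTensorCx A F] {P P' : DRing.Cx A}
    (hP : KFlat.IsKFlat (KFlatMod.bi (R := A)) P) (hP' : KFlat.IsKFlat (KFlatMod.bi (R := A)) P') (g : P ⟶ P') :
    (DRing.LTensorCx A F).map (DerivedCategory.Q.map g) ≫ (ltensorCxObj F P' hP').hom =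
      (ltensorCxObj F P hP).hom ≫ DerivedCategory.Q.map (g ▷ F) :=
  ((DRing.tensorCxQ A F).totalLeftDerivedCounit DerivedCategory.Q
    (HomologicalComplex.quasiIso (ModuleCat.{u} A) (ComplexShape.up ℤ))).naturality g

lemma ltensorObj_naturality (M : ModuleCat.{u} A) [DRing.HasLTensor A M] {P P' : DRing.Cx A}
    (hP : KFlat.IsKFlat (KFlatMod.bi (R := A)) P) (hP' : KFlat.IsKFlat (KFlatMod.bi (R := A)) P') (g : P ⟶ P') :
    (DRing.LTensor A M).map (DerivedCategory.Q.map g) ≫ (ltensorObj M P' hP').hom =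
      (ltensorObj M P hP).hom ≫ DerivedCategory.Q.map ((tens M).map g) :=
  (LeftDerTri.derivedIso ((DRing.tensorKh A M).totalLeftDerivedCounit DerivedCategory.Qh
    (HomotopyCategory.quasiIso (ModuleCat.{u} A) (ComplexShape.up ℤ))) (tensAdapted M)).hom.naturality
      (X := ⟨P, hP⟩) (Y := ⟨P', hP'⟩) (ObjectProperty.homMk g)

/-- Data computing the completion after tensoring. -/
theorem exists_tensor_completion (s : Finset A) [DRing.HasDerivedCompletion (Ideal.span (s : Set A))]
    {F : DRing.Cx A} {c : ℤ} (hFc : DRing.VanishesAbove F c) (hFf : DRing.TermwiseFiniteFree F)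
    (K : Dual.D A) (b : ℤ) (hK : ∀ i : ℤ, b < i → Subsingleton (Dual.HD A K i)) :
    ∃ (P P' : DRing.Cx A) (g : P ⟶ P') (e : DRing.toD P ≅ K)
      (e' : DRing.toD P' ≅ ((DRing.derivedCompletion (Ideal.span (s : Set A))).obj K).obj),
      KFlat.IsKFlat (KFlatMod.bi (R := A)) P ∧ KFlat.IsKFlat (KFlatMod.bi (R := A)) P' ∧
        DerivedCategory.Q.map g ≫ e'.hom = e.hom ≫ DRing.toDerivedCompletion (Ideal.span (s : Set A)) K ∧
        IsCompletion (Ideal.span (s : Set A)) (DerivedCategory.Q.map (g ▷ F)) := by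
  have hc := isCompletion_unit (I := Ideal.span (s : Set A)) K
  obtain ⟨P, hP, ⟨e⟩⟩ := exists_projRep hK
  obtain ⟨P', hP', ⟨e'⟩⟩ := exists_projRep (K := ((DRing.derivedCompletion (Ideal.span (s : Set A))).obj K).obj)
    ((hc.bounds s).2 b hK)
  haveI := hP.isKProjective
  obtain ⟨g, hg⟩ := ProjLift.Q_map_surjective P P'
    (e.hom ≫ DRing.toDerivedCompletion (Ideal.span (s : Set A)) K ≫ e'.inv)
  have hg' : DerivedCategory.Q.map g ≫ e'.hom = e.hom ≫ DRing.toDerivedCompletion (Ideal.span (s : Set A)) K := by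
    rw [hg]
    simp
  have hgc : IsCompletion (Ideal.span (s : Set A)) (DerivedCategory.Q.map g) := by
    have := hc.of_iso e.symm e'.symm
    rw [Iso.symm_inv, Iso.symm_hom, ← reassoc_of% hg', Iso.hom_inv_id, Category.comp_id] at this
    exact this
  have hflat : DRing.TermwiseFlat F := fun i => haveI := (hFf i).2; inferInstance
  exact ⟨P, P', g, e, e', isKFlat_of_flat hP.above hP.flat, isKFlat_of_flat hP'.above hP'.flat, hg',
    isDerivedComplete_tensor hFc hFf hP'.above hgc.complete,
    fun E hE => bijective_precomp_whiskerRight s g F (isKFlat_of_flat hFc hflat) hgc.bij E hE⟩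

/-- Completion and `- ⊗^L F`. -/
theorem isCompletion_ltensorCx (s : Finset A) [DRing.HasDerivedCompletion (Ideal.span (s : Set A))]
    {F : DRing.Cx A} {c : ℤ} (hFc : DRing.VanishesAbove F c) (hFf : DRing.TermwiseFiniteFree F)
    [DRing.HasLTensorCx A F] (K : Dual.D A) (b : ℤ) (hK : ∀ i : ℤ, b < i → Subsingleton (Dual.HD A K i)) :
    IsCompletion (Ideal.span (s : Set A))
      ((DRing.LTensorCx A F).map (DRing.toDerivedCompletion (Ideal.span (s : Set A)) K)) := by
  obtain ⟨P, P', g, e, e', hP, hP', hg, hc⟩ := exists_tensor_completion s hFc hFf K b hK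
  have := hc.of_iso ((ltensorCxObj F P hP).symm ≪≫ (DRing.LTensorCx A F).mapIso e)
    ((ltensorCxObj F P' hP').symm ≪≫ (DRing.LTensorCx A F).mapIso e')
  refine (congrArg (IsCompletion (Ideal.span (s : Set A))) ?_).mp this
  simp only [Iso.trans_inv, Iso.trans_hom, Iso.symm_hom, Iso.symm_inv, Functor.mapIso_hom, Functor.mapIso_inv,
    Category.assoc]
  rw [← reassoc_of% (ltensorCxObj_naturality F hP hP' g), Iso.hom_inv_id_assoc, ← Functor.map_comp,
    ← Functor.map_comp, hg, Iso.inv_hom_id_assoc]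

/-- `M` in degree zero. -/
noncomputable abbrev sglM (M : ModuleCat.{u} A) : DRing.Cx A :=
  (HomologicalComplex.single (ModuleCat.{u} A) (ComplexShape.up ℤ) 0).obj M

/-- `W ⊗ M ⟶ W ⊗ M[0]`. -/
noncomputable def tensSingleHom (M : ModuleCat.{u} A) (W : DRing.Cx A) : (tens M).obj W ⟶ W ⊗ sglM M where
  f q := (W.X q ◁ (HomologicalComplex.singleObjXSelf (ComplexShape.up ℤ) 0 M).inv) ≫
    HomologicalComplex.ιTensorObj W (sglM M) q 0 q (add_zero q)
  comm' q q' hq := by
    obtain rfl : q + 1 = q' := hq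
    refine ModuleCat.hom_ext (TensorProduct.ext' fun x m => ?_)
    show ((W ⊗ sglM M).d q (q + 1)).hom (tinc W (sglM M) q 0 q (add_zero q)
        (x ⊗ₜ (HomologicalComplex.singleObjXSelf (ComplexShape.up ℤ) 0 M).inv.hom m)) =
      tinc W (sglM M) (q + 1) 0 (q + 1) (add_zero _)
        ((W.d q (q + 1)).hom x ⊗ₜ (HomologicalComplex.singleObjXSelf (ComplexShape.up ℤ) 0 M).inv.hom m)
    rw [tinc_d W (sglM M) q 0 q (q + 1) (add_zero q) rfl]
    rw [HomologicalComplex.single_obj_d]
    simp

lemma isIso_tensSingleHom (M : ModuleCat.{u} A) (W : DRing.Cx A) : IsIso (tensSingleHom M W) := by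
  haveI : ∀ q, IsIso ((tensSingleHom M W).f q) := fun q => by
    let r : (W ⊗ sglM M).X q ⟶ ((tens M).obj W).X q :=
      HomologicalComplex.mapBifunctorDesc fun p' q' h' =>
        if hp : q' = 0 then
          ((curriedTensor (ModuleCat.{u} A)).map (W.XIsoOfEq (show p' = q by
              have h2 : p' + q' = q := h'
              omega)).hom).app ((sglM M).X q') ≫
            (W.X q ◁ (((sglM M).XIsoOfEq hp).hom ≫
              (HomologicalComplex.singleObjXSelf (ComplexShape.up ℤ) 0 M).hom))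
        else 0
    refine ⟨r, ?_, ?_⟩
    · refine ModuleCat.hom_ext (TensorProduct.ext' fun x m => ?_)
      show r.hom (tinc W (sglM M) q 0 q (add_zero q)
        (x ⊗ₜ (HomologicalComplex.singleObjXSelf (ComplexShape.up ℤ) 0 M).inv.hom m)) = x ⊗ₜ m
      refine (congrArg (fun t : (W.X q ⊗ (sglM M).X 0) ⟶ ((tens M).obj W).X q =>
          t.hom (x ⊗ₜ (HomologicalComplex.singleObjXSelf (ComplexShape.up ℤ) 0 M).inv.hom m))
        (HomologicalComplex.ι_mapBifunctorDesc (K₁ := W) (K₂ := sglM M) (F := curriedTensor (ModuleCat.{u} A))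
          (c := ComplexShape.up ℤ) (j := q) _ q 0 (add_zero q))).trans ?_
      rw [dif_pos rfl]
      exact congrArg (x ⊗ₜ[A] ·)
        ((HomologicalComplex.singleObjXSelf (ComplexShape.up ℤ) 0 M).inv_hom_id_apply m)
    · refine HomologicalComplex.mapBifunctor.hom_ext fun p' q' h' => ?_
      by_cases hp : q' = 0
      · subst hp
        obtain rfl : p' = q := by
          have h2 : p' + 0 = q := h'
          omega
        refine (Category.assoc _ _ _).symm.trans ?_
        refine (congrArg (· ≫ (tensSingleHom M W).f p')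
          (HomologicalComplex.ι_mapBifunctorDesc _ p' 0 h')).trans ?_
        rw [dif_pos rfl]
        refine ModuleCat.hom_ext (TensorProduct.ext' fun x y => ?_)
        exact congrArg (fun t => tinc W (sglM M) p' 0 p' h' (x ⊗ₜ[A] t))
          ((HomologicalComplex.singleObjXSelf (ComplexShape.up ℤ) 0 M).hom_inv_id_apply y)
      · exact ((tensorLeft (W.X p')).map_isZero
          (HomologicalComplex.isZero_single_obj_X (ComplexShape.up ℤ) 0 M q' hp)).eq_of_src _ _
  exact HomologicalComplex.Hom.isIso_of_components _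

lemma tensSingleHom_naturality (M : ModuleCat.{u} A) {W W' : DRing.Cx A} (g : W ⟶ W') :
    (tens M).map g ≫ tensSingleHom M W' = tensSingleHom M W ≫ (g ▷ sglM M) := by
  ext q : 1
  refine ModuleCat.hom_ext (TensorProduct.ext' fun x m => ?_)
  show tinc W' (sglM M) q 0 q (add_zero q)
      ((g.f q).hom x ⊗ₜ (HomologicalComplex.singleObjXSelf (ComplexShape.up ℤ) 0 M).inv.hom m) =
    ((g ▷ sglM M).f q).hom (tinc W (sglM M) q 0 q (add_zero q)
      (x ⊗ₜ (HomologicalComplex.singleObjXSelf (ComplexShape.up ℤ) 0 M).inv.hom m))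
  rw [tinc_whiskerRight]

/-- Completion and `- ⊗^L M`. -/
theorem isCompletion_ltensor [IsNoetherianRing A] (s : Finset A)
    [DRing.HasDerivedCompletion (Ideal.span (s : Set A))] (M : ModuleCat.{u} A) [Module.Finite A M]
    [DRing.HasLTensor A M] (K : Dual.D A) (b : ℤ) (hK : ∀ i : ℤ, b < i → Subsingleton (Dual.HD A K i)) :
    IsCompletion (Ideal.span (s : Set A))
      ((DRing.LTensor A M).map (DRing.toDerivedCompletion (Ideal.span (s : Set A)) K)) := by
  obtain ⟨F, c, hFc, hFf, ⟨eF⟩⟩ : DRing.IsPseudoCoherent' A (Dual.inD A M) :=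
    PCoh.pc'_of_forall fun m => PCoh.pc_of_finite (1 - m).toNat
      (fun i hi => PCoh.subsingleton_HD_inD M i (by omega)) fun i _ => by
        by_cases hi : i = 0
        · subst hi
          exact Module.Finite.equiv (PCoh.HDinD M).symm
        · haveI := PCoh.subsingleton_HD_inD M i hi
          infer_instance
  have hFproj : IsProjRep F c := ⟨hFc, fun i => haveI := (hFf i).2; inferInstance⟩
  obtain ⟨q, hq, -⟩ := exists_qis hFproj (eF ≪≫ PCoh.inDIso M)
  obtain ⟨P, P', g, e, e', hP, hP', hg, hc⟩ := exists_tensor_completion s hFc hFf K b hK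
  let θ : ∀ (W : DRing.Cx A), KFlat.IsKFlat (KFlatMod.bi (R := A)) W →
      (DRing.toD (W ⊗ F) ≅ DRing.toD ((tens M).obj W)) := fun W hW =>
    haveI := isIso_tensSingleHom M W
    @asIso _ _ _ _ _ (H25DTen.isIso_Q_map (W ◁ q) (@H25DTen.quasiIso_whiskerLeft A _ W hW _ _ q hq)) ≪≫
      (asIso (DerivedCategory.Q.map (tensSingleHom M W))).symm
  have hθ : DerivedCategory.Q.map (g ▷ F) ≫ (θ P' hP').hom = (θ P hP).hom ≫ DerivedCategory.Q.map ((tens M).map g) := by
    haveI := isIso_tensSingleHom M P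
    haveI := isIso_tensSingleHom M P'
    show DerivedCategory.Q.map (g ▷ F) ≫ DerivedCategory.Q.map (P' ◁ q) ≫ inv (DerivedCategory.Q.map (tensSingleHom M P')) =
      (DerivedCategory.Q.map (P ◁ q) ≫ inv (DerivedCategory.Q.map (tensSingleHom M P))) ≫ DerivedCategory.Q.map ((tens M).map g)
    rw [← Category.assoc, ← Functor.map_comp, ← whisker_exchange, Functor.map_comp, Category.assoc, Category.assoc]
    congr 1
    rw [IsIso.comp_inv_eq, Category.assoc, ← Functor.map_comp, tensSingleHom_naturality, Functor.map_comp,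
      IsIso.inv_hom_id_assoc]
  have hc' := hc.of_iso (θ P hP) (θ P' hP')
  rw [hθ, Iso.inv_hom_id_assoc] at hc'
  have := hc'.of_iso ((ltensorObj M P hP).symm ≪≫ (DRing.LTensor A M).mapIso e)
    ((ltensorObj M P' hP').symm ≪≫ (DRing.LTensor A M).mapIso e')
  refine (congrArg (IsCompletion (Ideal.span (s : Set A))) ?_).mp this
  simp only [Iso.trans_inv, Iso.trans_hom, Iso.symm_hom, Iso.symm_inv, Functor.mapIso_hom, Functor.mapIso_inv,
    Category.assoc]
  rw [← reassoc_of% (ltensorObj_naturality M hP hP' g), Iso.hom_inv_id_assoc, ← Functor.map_comp,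
    ← Functor.map_comp, hg, Iso.inv_hom_id_assoc]

end Groth.Agent.H4DR.RHom
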